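import Cfsg.Agent.RootSubgroups.RootSet

/-!
# The commutator case for abstract root subgroups
-/

set_option autoImplicit false

namespace CfsgLib.RootSubgroups

open scoped commutatorElement

open Cfsg

variable {G : Type*} [Group G] {S : Set (Subgroup G)}

namespace CommCase

variable {A B : Subgroup G}

theorem symm (h : RootCommutatorCase S A B) : RootCommutatorCase S B A := by
  obtain ⟨h1, h2, h3, h4⟩ := h
  rw [Subgroup.commutator_comm] at h1 h2 h3 h4
  rw [sup_comm] at h2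
  have hinv : ∀ a b : G, (a * b * a⁻¹ * b⁻¹)⁻¹ = b * a * b⁻¹ * a⁻¹ := fun a b => by
    simp [mul_assoc]
  refine ⟨h1, h2, fun b hb hb1 => ?_, fun a ha ha1 => ?_⟩
  · rw [← h4 b hb hb1]
    apply le_antisymm <;> rw [Subgroup.closure_le] <;> rintro _ ⟨a, ha, rfl⟩
    · simp only [SetLike.mem_coe]; rw [← hinv a b]
      exact inv_mem (Subgroup.subset_closure ⟨a, ha, rfl⟩)
    · simp only [SetLike.mem_coe]; rw [← hinv b a]
      exact inv_mem (Subgroup.subset_closure ⟨a, ha, rfl⟩)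
  · rw [← h3 a ha ha1]
    apply le_antisymm <;> rw [Subgroup.closure_le] <;> rintro _ ⟨b, hb, rfl⟩
    · simp only [SetLike.mem_coe]; rw [← hinv a b]
      exact inv_mem (Subgroup.subset_closure ⟨b, hb, rfl⟩)
    · simp only [SetLike.mem_coe]; rw [← hinv b a]
      exact inv_mem (Subgroup.subset_closure ⟨b, hb, rfl⟩)

theorem comm_mem (_h : RootCommutatorCase S A B) {a b : G} (ha : a ∈ A) (hb : b ∈ B) :
    a * b * a⁻¹ * b⁻¹ ∈ ⁅A, B⁆ :=
  Subgroup.commutator_mem_commutator ha hb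

theorem central_left (h : RootCommutatorCase S A B) {c a : G} (hc : c ∈ ⁅A, B⁆) (ha : a ∈ A) :
    c * a = a * c :=
  h.2.1 c hc a (Subgroup.mem_sup_left ha)

theorem central_right (h : RootCommutatorCase S A B) {c b : G} (hc : c ∈ ⁅A, B⁆) (hb : b ∈ B) :
    c * b = b * c :=
  h.2.1 c hc b (Subgroup.mem_sup_right hb)

theorem comm_mul (h : RootCommutatorCase S A B) {a b b' : G} (ha : a ∈ A) (hb : b ∈ B)
    (hb' : b' ∈ B) :
    a * (b * b') * a⁻¹ * (b * b')⁻¹ = (a * b * a⁻¹ * b⁻¹) * (a * b' * a⁻¹ * b'⁻¹) := by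
  have h1 := central_right h (comm_mem h ha hb') hb
  calc a * (b * b') * a⁻¹ * (b * b')⁻¹
      = a * b * a⁻¹ * ((a * b' * a⁻¹ * b'⁻¹) * b⁻¹) := by simp [mul_assoc]
    _ = a * b * a⁻¹ * (b⁻¹ * (a * b' * a⁻¹ * b'⁻¹)) := by
        rw [central_right h (comm_mem h ha hb') (inv_mem hb)]
    _ = _ := by simp [mul_assoc]

/-- For `a ∈ A` the map `b ↦ [a, b]` as a homomorphism. -/
def commHom (h : RootCommutatorCase S A B) {a : G} (ha : a ∈ A) : B →* G :=
  MonoidHom.mk' (fun b => a * (b : G) * a⁻¹ * (b : G)⁻¹) (fun b b' => by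
    simpa using comm_mul h ha b.2 b'.2)

theorem exists_comm_eq (h : RootCommutatorCase S A B) {a : G} (ha : a ∈ A) (ha1 : a ≠ 1)
    {c : G} (hc : c ∈ ⁅A, B⁆) : ∃ b ∈ B, a * b * a⁻¹ * b⁻¹ = c := by
  have hle : Subgroup.closure ((fun b : G => a * b * a⁻¹ * b⁻¹) '' (B : Set G)) ≤
      (commHom h ha).range := by
    rw [Subgroup.closure_le]
    rintro _ ⟨b, hb, rfl⟩
    exact ⟨⟨b, hb⟩, rfl⟩
  rw [h.2.2.1 a ha ha1] at hle
  obtain ⟨b, hb⟩ := hle hc
  exact ⟨b, b.2, hb⟩

/-- Every translate of `a` by `[A, B]` is conjugate to `a` under `B`. -/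
theorem exists_conj_eq (h : RootCommutatorCase S A B) {a : G} (ha : a ∈ A) (ha1 : a ≠ 1)
    {c : G} (hc : c ∈ ⁅A, B⁆) : ∃ b ∈ B, b * a * b⁻¹ = c * a := by
  obtain ⟨b, hb, hbc⟩ := exists_comm_eq h ha ha1 (inv_mem hc)
  refine ⟨b, hb, ?_⟩
  rw [← inv_inv c, ← hbc]
  simp [mul_assoc]

theorem mem_sup (h : RootCommutatorCase S A B) {x : G} :
    x ∈ A ⊔ ⁅A, B⁆ ↔ ∃ a ∈ A, ∃ c ∈ ⁅A, B⁆, a * c = x := by
  constructor
  · intro hx
    rw [Subgroup.sup_eq_closure] at hx
    induction hx using Subgroup.closure_induction with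
    | mem y hy =>
      rcases hy with hy | hy
      · exact ⟨y, hy, 1, one_mem _, mul_one y⟩
      · exact ⟨1, one_mem _, y, hy, one_mul y⟩
    | one => exact ⟨1, one_mem _, 1, one_mem _, one_mul 1⟩
    | mul y z _ _ ihy ihz =>
      obtain ⟨a, ha, c, hc, rfl⟩ := ihy
      obtain ⟨a', ha', c', hc', rfl⟩ := ihz
      refine ⟨a * a', mul_mem ha ha', c * c', mul_mem hc hc', ?_⟩
      calc a * a' * (c * c') = a * (a' * c) * c' := by simp [mul_assoc]
        _ = a * (c * a') * c' := by rw [central_left h hc ha']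
        _ = a * c * (a' * c') := by simp [mul_assoc]
    | inv y _ ih =>
      obtain ⟨a, ha, c, hc, rfl⟩ := ih
      refine ⟨a⁻¹, inv_mem ha, c⁻¹, inv_mem hc, ?_⟩
      rw [mul_inv_rev, ← central_left h (inv_mem hc) (inv_mem ha)]
  · rintro ⟨a, ha, c, hc, rfl⟩
    exact mul_mem (Subgroup.mem_sup_left ha) (Subgroup.mem_sup_right hc)

theorem conjBy_le_sup (h : RootCommutatorCase S A B) {b : G} (hb : b ∈ B) :
    conjBy A b ≤ A ⊔ ⁅A, B⁆ := by
  intro x hx
  have ha := mem_conjBy.1 hx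
  have hc := inv_mem (comm_mem h ha hb)
  have : x = ((b⁻¹ * x * b) * b * (b⁻¹ * x * b)⁻¹ * b⁻¹)⁻¹ * (b⁻¹ * x * b) := by
    simp [mul_assoc]
  rw [this]
  exact mul_mem (Subgroup.mem_sup_right hc) (Subgroup.mem_sup_left ha)

theorem left_ne (hS : IsRootSubgroupSet S) (h : RootCommutatorCase S A B) : A ≠ ⁅A, B⁆ := by
  intro he
  apply RootSet.ne_bot_commCase hS h
  rw [commutator_eq_bot_iff_commutes]
  intro a ha b hb
  exact central_right h (he ▸ ha) hb

variable {P : Subgroup G}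

theorem disjoint_left (hS : IsRootSubgroupSet S) (h : RootCommutatorCase S A B) (hA : A ∈ S)
    (hP : P ∈ S) (hAP : IsRankOnePair A P) {x : G} (hxA : x ∈ A) (hxC : x ∈ ⁅A, B⁆) : x = 1 := by
  by_contra hx
  exact left_ne hS h (RootSet.eq_of_inter hS hA hP hAP h.1 hxA hxC hx).symm

/-- If `A` has a rank one partner then non-identity elements of `A` and `B` do not commute. -/
theorem comm_ne_one (hS : IsRootSubgroupSet S) (h : RootCommutatorCase S A B) (hA : A ∈ S)
    (hP : P ∈ S) (hAP : IsRankOnePair A P) {a b : G} (ha : a ∈ A) (ha1 : a ≠ 1) (hb : b ∈ B)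
    (hb1 : b ≠ 1) : a * b * a⁻¹ * b⁻¹ ≠ 1 := by
  intro he
  have hab : a * b = b * a := by
    calc a * b = a * b * a⁻¹ * b⁻¹ * (b * a) := by simp [mul_assoc]
      _ = b * a := by rw [he, one_mul]
  have hmem : a ∈ conjBy A b := mem_conjBy.2 (by rw [mul_assoc, hab, inv_mul_cancel_left]; exact ha)
  have hfix := RootSet.eq_of_inter hS hA hP hAP (hS.conj_mem A hA b) ha hmem ha1
  apply RootSet.ne_bot_commCase hS h
  rw [← h.2.2.2 b hb hb1, Subgroup.closure_eq_bot_iff]
  rintro _ ⟨a', ha', rfl⟩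
  have h1 : b * a'⁻¹ * b⁻¹ ∈ A := hfix ▸ mem_conjBy.2 (by simpa [mul_assoc] using ha')
  have h2 : a' * b * a'⁻¹ * b⁻¹ ∈ A := by
    have := mul_mem ha' h1
    simpa [mul_assoc] using this
  simpa using disjoint_left hS h hA hP hAP h2 (comm_mem h ha' hb)

theorem commHom_injective (hS : IsRootSubgroupSet S) (h : RootCommutatorCase S A B) (hA : A ∈ S)
    (hP : P ∈ S) (hAP : IsRankOnePair A P) {a : G} (ha : a ∈ A) (ha1 : a ≠ 1) :
    Function.Injective (commHom h ha) := by
  rw [injective_iff_map_eq_one]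
  intro b hb
  by_contra hb1
  exact comm_ne_one hS h hA hP hAP ha ha1 b.2 (fun h0 => hb1 (Subtype.ext h0)) hb

/-- A non-identity element of `[A, B]` does not centralize a partner of `A`. -/
theorem not_commutes_partner (hS : IsRootSubgroupSet S) (h : RootCommutatorCase S A B)
    (hA : A ∈ S) (hP : P ∈ S) (hAP : IsRankOnePair A P) {c : G} (hc : c ∈ ⁅A, B⁆) (hc1 : c ≠ 1) :
    ¬ ∀ p ∈ P, c * p = p * c := by
  intro hcp
  obtain ⟨a, ha, ha1⟩ := RankOne.exists_left hAP
  obtain ⟨b, hb, hbc⟩ := exists_conj_eq h ha ha1 hc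
  refine RootSet.translate_not_root hS hA hP hAP
    (RankOne.commutes_sup (fun x hx => central_left h hc hx) hcp) hc1 a ha ha1 ⟨?_, conjBy A b,
      hS.conj_mem A hA b, ?_⟩
  · rw [← hbc]
    intro h0
    exact ha1 (by simpa [mul_assoc] using congrArg (fun t => b⁻¹ * t * b) h0)
  · rw [← hbc]
    exact mem_conjBy.2 (by simpa [mul_assoc] using ha)

/-- A member inside `[A, B]` equals it. -/
theorem eq_of_le_commutator (hS : IsRootSubgroupSet S) (h : RootCommutatorCase S A B)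
    (hA : A ∈ S) (hP : P ∈ S) (hAP : IsRankOnePair A P) {E : Subgroup G} (hE : E ∈ S)
    (hle : E ≤ ⁅A, B⁆) : E = ⁅A, B⁆ := by
  obtain ⟨e, he, he1⟩ : ∃ e ∈ E, e ≠ 1 := by
    by_contra hc
    push Not at hc
    exact hS.ne_bot E hE (by rw [Subgroup.eq_bot_iff_forall]; exact hc)
  have hnc := not_commutes_partner hS h hA hP hAP (hle he) he1
  rcases hS.pair _ h.1 P hP with h' | h' | h'
  · exact absurd (commutator_eq_bot_iff_commutes.1 h' e (hle he)) hnc
  · exact RootSet.eq_of_inter hS h.1 hP h' hE (hle he) he he1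
  · have hPA := RankOnePair_symm hAP
    rcases hS.pair E hE P hP with h'' | h'' | h''
    · exact absurd (commutator_eq_bot_iff_commutes.1 h'' e he) hnc
    · exfalso
      have hfix : conjBy P e = P := by
        have hu : conjBy P e ∈ unipotentSubgroups E P :=
          RankOne.conjBy_mem_unipotent (RankOne.right_mem_unipotent h'') (Subgroup.mem_sup_left he)
        exact (RootSet.eq_of_mem_unipotent_of_commutes h'' (RankOne.right_mem_unipotent h'') hu
          (commutator_eq_bot_iff_commutes.2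
            (RootSet.commCase_conj_commutes hS hP h' (hle he)))).symm
      exact he1 (RankOne.eq_one_of_normalizes h'' he hfix)
    · refine le_antisymm hle fun c hc => ?_
      obtain ⟨p, hp, hp1⟩ := RankOne.exists_left hPA
      have hle' : ⁅⁅A, B⁆, P⁆ ≤ ⁅E, P⁆ := by
        rw [← h'.2.2.1 e (hle he) he1, Subgroup.closure_le]
        rintro _ ⟨x, hx, rfl⟩
        exact Subgroup.commutator_mem_commutator he hx
      have h''s := symm h''
      have hcp : p * c * p⁻¹ * c⁻¹ ∈ ⁅P, E⁆ := by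
        rw [Subgroup.commutator_comm]
        exact hle' (by rw [Subgroup.commutator_comm]; exact Subgroup.commutator_mem_commutator hp hc)
      obtain ⟨e', he', hee⟩ := exists_comm_eq h''s hp hp1 hcp
      have hinj := commHom_injective hS (symm h') hP hA hPA hp hp1
      have : (⟨c, hc⟩ : (⁅A, B⁆ : Subgroup G)) = ⟨e', hle he'⟩ := hinj hee.symm
      rw [show c = e' from congrArg Subtype.val this]
      exact he'

theorem membersIn_eq (hS : IsRootSubgroupSet S) (h : RootCommutatorCase S A B) (hA : A ∈ S)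
    (hP : P ∈ S) (hAP : IsRankOnePair A P) :
    membersIn S (A ⊔ ⁅A, B⁆) = (fun b : G => conjBy A b) '' (B : Set G) ∪ {⁅A, B⁆} := by
  apply Set.Subset.antisymm
  · rintro E ⟨hE, hle⟩
    by_cases hEC : E ≤ ⁅A, B⁆
    · exact Or.inr (eq_of_le_commutator hS h hA hP hAP hE hEC)
    · obtain ⟨x, hx, hxC⟩ := SetLike.not_le_iff_exists.1 hEC
      obtain ⟨a, ha, c, hc, rfl⟩ := (mem_sup h).1 (hle hx)
      have ha1 : a ≠ 1 := fun h0 => hxC (by rw [h0, one_mul]; exact hc)
      obtain ⟨b, hb, hbc⟩ := exists_conj_eq h ha ha1 hc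
      refine Or.inl ⟨b, hb, ?_⟩
      refine (RootSet.eq_of_inter hS (hS.conj_mem A hA b) (hS.conj_mem P hP b)
        (RankOne.conj hAP b) hE (a := a * c) ?_ hx (fun h0 => hxC (h0 ▸ one_mem _))).symm
      rw [← central_left h hc ha, ← hbc]
      exact mem_conjBy.2 (by simpa [mul_assoc] using ha)
  · rintro E (⟨b, hb, rfl⟩ | rfl)
    · exact ⟨hS.conj_mem A hA b, conjBy_le_sup h hb⟩
    · exact ⟨h.1, le_sup_right⟩

theorem partition (hS : IsRootSubgroupSet S) (h : RootCommutatorCase S A B) (hA : A ∈ S)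
    (hP : P ∈ S) (hAP : IsRankOnePair A P) :
    IsSubgroupPartition (A ⊔ ⁅A, B⁆) (membersIn S (A ⊔ ⁅A, B⁆)) := by
  refine ⟨fun C hC => hC.2, fun x hx hx1 => ?_, ?_⟩
  · obtain ⟨a, ha, c, hc, rfl⟩ := (mem_sup h).1 hx
    by_cases ha1 : a = 1
    · exact ⟨_, ⟨h.1, le_sup_right⟩, by rw [ha1, one_mul]; exact hc⟩
    · obtain ⟨b, hb, hbc⟩ := exists_conj_eq h ha ha1 hc
      refine ⟨conjBy A b, ⟨hS.conj_mem A hA b, conjBy_le_sup h hb⟩, ?_⟩
      rw [← central_left h hc ha, ← hbc]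
      exact mem_conjBy.2 (by simpa [mul_assoc] using ha)
  · have key : ∀ b ∈ B, ∀ D ∈ membersIn S (A ⊔ ⁅A, B⁆), conjBy A b ≠ D →
        conjBy A b ⊓ D = ⊥ := by
      intro b hb D hD hne
      rw [Subgroup.eq_bot_iff_forall]
      intro x hx
      by_contra hx1
      exact hne (RootSet.eq_of_inter hS (hS.conj_mem A hA b) (hS.conj_mem P hP b)
        (RankOne.conj hAP b) hD.1 hx.1 hx.2 hx1).symm
    intro C hC D hD hne
    have hC' := hC
    have hD' := hD
    rw [membersIn_eq hS h hA hP hAP] at hC' hD'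
    rcases hC' with ⟨b, hb, rfl⟩ | hC'
    · exact key b hb D hD hne
    · rcases hD' with ⟨b, hb, rfl⟩ | hD'
      · rw [inf_comm]; exact key b hb C hC hne.symm
      · exact absurd (hC'.trans hD'.symm) hne

theorem line_commutator (hS : IsRootSubgroupSet S) (h : RootCommutatorCase S A B) (hA : A ∈ S)
    (hP : P ∈ S) (hAP : IsRankOnePair A P) : A ∈ linePartners S ⁅A, B⁆ := by
  refine ⟨⟨hA, left_ne hS h, commutator_eq_bot_iff_commutes.2
    fun c hc a ha => central_left h hc ha⟩, ?_⟩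
  rw [sup_comm]
  exact partition hS h hA hP hAP

/-- A moving conjugate of `A` is a line partner of `A`. -/
theorem line_conj (hS : IsRootSubgroupSet S) (h : RootCommutatorCase S A B) (hA : A ∈ S)
    (hP : P ∈ S) (hAP : IsRankOnePair A P) {b : G} (hb : b ∈ B) (hb1 : b ≠ 1) :
    conjBy A b ∈ linePartners S A := by
  obtain ⟨a, ha, ha1⟩ := RankOne.exists_left hAP
  have hne : conjBy A b ≠ A := by
    intro he
    apply comm_ne_one hS h hA hP hAP ha ha1 hb hb1
    refine disjoint_left hS h hA hP hAP ?_ (comm_mem h ha hb)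
    have h1 : b * a⁻¹ * b⁻¹ ∈ A := he ▸ mem_conjBy.2 (by simpa [mul_assoc] using ha)
    simpa [mul_assoc] using mul_mem ha h1
  have hsup : A ⊔ conjBy A b = A ⊔ ⁅A, B⁆ := by
    refine le_antisymm (sup_le le_sup_left (conjBy_le_sup h hb)) (sup_le le_sup_left ?_)
    rw [← h.2.2.2 b hb hb1, Subgroup.closure_le]
    rintro _ ⟨a', ha', rfl⟩
    have : a' * b * a'⁻¹ * b⁻¹ = a' * (b * a'⁻¹ * b⁻¹) := by simp [mul_assoc]
    show a' * b * a'⁻¹ * b⁻¹ ∈ A ⊔ conjBy A b
    rw [this]
    exact mul_mem (Subgroup.mem_sup_left ha')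
      (Subgroup.mem_sup_right (mem_conjBy.2 (by simpa [mul_assoc] using ha')))
  refine ⟨⟨hS.conj_mem A hA b, hne, commutator_eq_bot_iff_commutes.2
    (RootSet.commCase_conj_commutes hS hA (symm h) hb)⟩, ?_⟩
  rw [hsup]
  exact partition hS h hA hP hAP

theorem left_le_normalizer (A B : Subgroup G) :
    A ≤ Subgroup.normalizer ((⁅A, B⁆ : Subgroup G) : Set G) := by
  have key : ∀ a ∈ A, ∀ n ∈ ⁅A, B⁆, a * n * a⁻¹ ∈ ⁅A, B⁆ := by
    intro a ha
    have : ⁅A, B⁆ ≤ (⁅A, B⁆).comap (MulAut.conj a).toMonoidHom := by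
      rw [Subgroup.commutator_le]
      intro x hx y hy
      rw [Subgroup.mem_comap]
      show a * ⁅x, y⁆ * a⁻¹ ∈ _
      have e : a * ⁅x, y⁆ * a⁻¹ = ⁅a * x, y⁆ * ⁅a, y⁆⁻¹ := by
        simp [commutatorElement_def, mul_assoc]
      rw [e]
      exact mul_mem (Subgroup.commutator_mem_commutator (mul_mem ha hx) hy)
        (inv_mem (Subgroup.commutator_mem_commutator ha hy))
    exact fun n hn => this hn
  intro a ha
  rw [Subgroup.mem_normalizer_iff]
  refine fun n => ⟨key a ha n, fun hn => ?_⟩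
  simpa [mul_assoc] using key a⁻¹ (inv_mem ha) _ hn

/-- A rank one pair is not in the commutator case: its commutator subgroup is no member. -/
theorem commutator_not_mem (hS : IsRootSubgroupSet S) (hA : A ∈ S) (hB : B ∈ S)
    (h : IsRankOnePair A B) : ⁅A, B⁆ ∉ S := by
  intro hC
  obtain ⟨a, ha, ha1⟩ := RankOne.exists_left h
  have hle : ⁅A, B⁆ ≤ A ⊔ B := by
    rw [Subgroup.commutator_le]
    intro x hx y hy
    exact mul_mem (mul_mem (mul_mem (Subgroup.mem_sup_left hx) (Subgroup.mem_sup_right hy))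
      (inv_mem (Subgroup.mem_sup_left hx))) (inv_mem (Subgroup.mem_sup_right hy))
  haveI := hS.commutative A hA
  haveI := hS.commutative B hB
  have hAn : A ≤ Subgroup.normalizer ((⁅A, B⁆ : Subgroup G) : Set G) := left_le_normalizer A B
  have hBn : B ≤ Subgroup.normalizer ((⁅A, B⁆ : Subgroup G) : Set G) := by
    rw [Subgroup.commutator_comm]; exact left_le_normalizer B A
  have hN : ∀ x ∈ A ⊔ B, ∀ n ∈ ⁅A, B⁆, x * n * x⁻¹ ∈ ⁅A, B⁆ := fun x hx n hn =>
    (Subgroup.mem_normalizer_iff.1 (sup_le hAn hBn hx) n).1 hn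
  have hBc : ⁅A, B⁆ ≤ Subgroup.centralizer ((A ⊔ B : Subgroup G) : Set G) → False := by
    intro hc
    apply ha1
    refine RankOne.eq_one_of_normalizes h ha (RootSet.eq_of_mem_unipotent_of_commutes h
      (RankOne.right_mem_unipotent h) (RankOne.conjBy_mem_unipotent (RankOne.right_mem_unipotent h)
        (Subgroup.mem_sup_left ha)) (commutator_eq_bot_iff_commutes.2 fun b hb x hx => ?_)).symm
    have hy : a⁻¹ * x * a ∈ B := mem_conjBy.1 hx
    have h1 := Subgroup.mem_centralizer_iff.1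
      (hc (Subgroup.commutator_mem_commutator ha hy)) b (Subgroup.mem_sup_right hb)
    have h2 := RootSet.comm_of_mem hS hB hb hy
    have hx' : x = a * (a⁻¹ * x * a) * a⁻¹ * (a⁻¹ * x * a)⁻¹ * (a⁻¹ * x * a) := by
      simp [mul_assoc]
    rw [commutatorElement_def] at h1
    rw [hx', ← mul_assoc, h1, mul_assoc, h2, ← mul_assoc]
  rcases RankOne.normal_dichotomy h hle hN with hsup | hc
  · rcases hS.pair _ hC A hA with h' | h' | h'
    · -- `⁅A, B⁆` centralizes `A`, so `A` is normal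
      exact RankOne.commutator_ne_bot h (commutator_eq_bot_iff_commutes.2 fun x hx y hy => by
        have hy' : y ∈ ⁅A, B⁆ ⊔ A := hsup ▸ Subgroup.mem_sup_right hy
        have hle' : ⁅A, B⁆ ⊔ A ≤ Subgroup.centralizer ({x} : Set G) :=
          sup_le (fun n hn => Subgroup.mem_centralizer_singleton_iff.2
            (commutator_eq_bot_iff_commutes.1 h' n hn x hx))
            (fun n hn => Subgroup.mem_centralizer_singleton_iff.2 (RootSet.comm_of_mem hS hA hn hx))
        exact (Subgroup.mem_centralizer_singleton_iff.1 (hle' hy')).symm)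
    · exact ha1 (RankOne.eq_one_of_normalizes (RankOnePair_symm h') ha
        (conjBy_eq_self_iff.2 (hAn ha)))
    · -- `A` is normal in `⁅A, B⁆ ⊔ A`
      have hfix : ∀ n ∈ ⁅A, B⁆, conjBy A n = A := fun n hn =>
        (RootSet.eq_of_mem_unipotent_of_commutes h RankOne.left_mem_unipotent
          ⟨n, hle hn, rfl⟩ (commutator_eq_bot_iff_commutes.2
            (RootSet.commCase_conj_commutes hS hA h' hn))).symm
      obtain ⟨b, hb, hb1⟩ := RankOne.exists_left (RankOnePair_symm h)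
      apply hb1
      refine RankOne.eq_one_of_normalizes (RankOnePair_symm h) hb (conjBy_eq_self_iff.2 ?_)
      exact (sup_le (fun n hn => conjBy_eq_self_iff.1 (hfix n hn)) Subgroup.le_normalizer :
        ⁅A, B⁆ ⊔ A ≤ Subgroup.normalizer (A : Set G)) (hsup ▸ Subgroup.mem_sup_right hb)
  · exact hBc hc

theorem of_mem (hS : IsRootSubgroupSet S) (hA : A ∈ S) (hB : B ∈ S) (hC : ⁅A, B⁆ ∈ S) :
    RootCommutatorCase S A B := by
  rcases hS.pair A hA B hB with h | h | h
  · exact absurd h (hS.ne_bot _ hC)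
  · exact absurd hC (commutator_not_mem hS hA hB h)
  · exact h

end CommCase

end CfsgLib.RootSubgroups
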