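import Cfsg.Agent.RootSubgroups.Commutator

/-!
# Lines and components of the rank one graph
-/

set_option autoImplicit false

namespace CfsgLib.RootSubgroups

open Cfsg

variable {G : Type*} [Group G] {S : Set (Subgroup G)}

theorem FAdj_symm {A B : Subgroup G} (h : FAdj S A B) : FAdj S B A :=
  ⟨h.2.1, h.1, RankOnePair_symm h.2.2⟩

theorem reach_symm {A B : Subgroup G} (h : Relation.ReflTransGen (FAdj S) A B) :
    Relation.ReflTransGen (FAdj S) B A := by
  induction h with
  | refl => exact .refl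
  | tail _ hadj ih => exact .head (FAdj_symm hadj) ih

theorem componentOf_eq {A B : Subgroup G} (h : Relation.ReflTransGen (FAdj S) A B) :
    componentOf (FAdj S) S A = componentOf (FAdj S) S B := by
  ext C
  exact ⟨fun hC => ⟨hC.1, (reach_symm h).trans hC.2⟩, fun hC => ⟨hC.1, h.trans hC.2⟩⟩

theorem reach_conj (hS : IsRootSubgroupSet S) {A B : Subgroup G}
    (h : Relation.ReflTransGen (FAdj S) A B) (g : G) :
    Relation.ReflTransGen (FAdj S) (conjBy A g) (conjBy B g) := by
  induction h with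
  | refl => exact .refl
  | tail _ hadj ih =>
    exact ih.tail ⟨hS.conj_mem _ hadj.1 g, hS.conj_mem _ hadj.2.1 g, RankOne.conj hadj.2.2 g⟩

theorem exists_partner_of_ne {A A' : Subgroup G} (h : Relation.ReflTransGen (FAdj S) A A')
    (hne : A' ≠ A) : ∃ P ∈ S, IsRankOnePair A P := by
  rcases h.cases_head with he | ⟨P, hP, -⟩
  · exact absurd he.symm hne
  · exact ⟨P, hP.2.1, hP.2.2⟩

theorem linePartners_symm {A B : Subgroup G} (hA : A ∈ S) (h : B ∈ linePartners S A) :
    A ∈ linePartners S B := by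
  obtain ⟨⟨hB, hne, hc⟩, hp⟩ := h
  refine ⟨⟨hA, hne.symm, by rw [Subgroup.commutator_comm]; exact hc⟩, ?_⟩
  rw [sup_comm]; exact hp

/-- The third member on a line through `a b` is joined to the partner of `B`. -/
theorem line_third_adj (hS : IsRootSubgroupSet S) {A B E D : Subgroup G} (hB : B ∈ S)
    (hE : E ∈ S) (hD : D ∈ S) (hBD : IsRankOnePair B D) (hAB : ⁅A, B⁆ = ⊥) {a b : G}
    (ha : a ∈ A) (ha1 : a ≠ 1) (hb : b ∈ B) (hb1 : b ≠ 1) (hab : a * b ∈ E) (hab1 : a * b ≠ 1)
    (hpair : ⁅A, D⁆ = ⊥ ∨ RootCommutatorCase S A D) : IsRankOnePair E D := by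
  have hBu : B ∈ unipotentSubgroups B D := RankOne.left_mem_unipotent
  have hDu : D ∈ unipotentSubgroups B D := RankOne.right_mem_unipotent hBD
  have haB : ∀ x ∈ B, a * x = x * a := commutator_eq_bot_iff_commutes.1 hAB a ha
  rcases hpair with hc | hF
  · exfalso
    exact RootSet.translate_not_root hS hB hD hBD
      (RankOne.commutes_sup haB (commutator_eq_bot_iff_commutes.1 hc a ha)) ha1 b hb hb1
      ⟨hab1, E, hE, hab⟩
  rcases hS.pair E hE D hD with hc | h | hF'
  · exfalso
    have hfix : conjBy D (a * b) = D :=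
      conjBy_eq_of_commutes (commutator_eq_bot_iff_commutes.1 hc _ hab)
    rw [← conjBy_conjBy, conjBy_eq_iff] at hfix
    have hu : conjBy D b ∈ unipotentSubgroups B D :=
      RankOne.conjBy_mem_unipotent hDu (Subgroup.mem_sup_left hb)
    have he := RootSet.eq_of_mem_unipotent_of_commutes hBD hDu hu
      (commutator_eq_bot_iff_commutes.2 (by
        rw [hfix]; exact RootSet.commCase_conj_commutes hS hD hF (inv_mem ha)))
    exact hb1 (RankOne.eq_one_of_normalizes hBD hb he.symm)
  · exact h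
  · exfalso
    -- `conjBy D b` commutes with `conjBy D a⁻¹`
    have h1 := RootSet.commCase_conj_commutes hS hD hF' hab
    have h2 : ∀ x ∈ conjBy D a⁻¹, ∀ y ∈ conjBy D b, x * y = y * x := by
      intro x hx y hy
      have hx' : a * x * a⁻¹ ∈ D := by simpa using mem_conjBy.1 hx
      have hy' : a * y * a⁻¹ ∈ conjBy D (a * b) := by
        refine mem_conjBy.2 ?_
        have := mem_conjBy.1 hy
        simpa [mul_assoc] using this
      have := congrArg (fun t => a⁻¹ * t * a) (h1 _ hx' _ hy')
      simpa [mul_assoc] using this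
    have hu : conjBy D b ∈ unipotentSubgroups D B := by
      rw [RankOne.unipotent_symm hBD]
      exact RankOne.conjBy_mem_unipotent hDu (Subgroup.mem_sup_left hb)
    rcases (RankOne.mem_unipotent_iff (RankOnePair_symm hBD)).1 hu with he | ⟨d, hd, he⟩
    · exact hb1 (RankOne.eq_one_of_normalizes hBD hb he)
    rw [he] at h2
    have hDa := RootSet.commCase_conj_commutes hS hD hF (inv_mem ha)
    -- hence `B` commutes with `conjBy D a⁻¹`
    have h3 : ∀ x ∈ conjBy D a⁻¹, ∀ y ∈ B, x * y = y * x := by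
      intro x hx y hy
      have hy' : d * y * d⁻¹ ∈ conjBy B d := mem_conjBy.2 (by simpa [mul_assoc] using hy)
      have hdx : x = d * x * d⁻¹ := by rw [hDa d hd x hx]; simp [mul_assoc]
      have := h2 x hx _ hy'
      rw [hdx] at this
      simpa [mul_assoc] using congrArg (fun t => d⁻¹ * t * d) this
    obtain ⟨x, hx, hx1⟩ := RankOne.exists_left hBD
    apply hx1
    refine RankOne.eq_one_of_commutes hBD hx fun y hy => ?_
    have hy' : a⁻¹ * y * a ∈ conjBy D a⁻¹ := mem_conjBy.2 (by simpa [mul_assoc] using hy)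
    have h4 := congrArg (fun t => a * t * a⁻¹) (h3 _ hy' x hx)
    have hax : a * x = x * a := haB x hx
    calc x * y = x * (a * (a⁻¹ * y * a) * a⁻¹) := by simp [mul_assoc]
      _ = a * (x * (a⁻¹ * y * a)) * a⁻¹ := by
          rw [← mul_assoc x, ← mul_assoc x a, ← hax]; simp [mul_assoc]
      _ = a * ((a⁻¹ * y * a) * x) * a⁻¹ := h4.symm
      _ = y * (a * x) * a⁻¹ := by simp [mul_assoc]
      _ = y * x := by rw [hax]; simp [mul_assoc]

/-- Line partners lie in one component of the rank one graph. -/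
theorem reach_of_line (hS : IsRootSubgroupSet S) {A B : Subgroup G} (hA : A ∈ S)
    (hA' : ∃ P ∈ S, IsRankOnePair A P) (hB' : ∃ P ∈ S, IsRankOnePair B P)
    (h : B ∈ linePartners S A) : Relation.ReflTransGen (FAdj S) A B := by
  obtain ⟨⟨hB, hne, hAB⟩, hpart⟩ := h
  obtain ⟨P, hP, hAP⟩ := hA'
  obtain ⟨D, hD, hBD⟩ := hB'
  by_cases hAD : IsRankOnePair A D
  · exact (Relation.ReflTransGen.single ⟨hA, hD, hAD⟩).tail ⟨hD, hB, RankOnePair_symm hBD⟩
  by_cases hBP : IsRankOnePair B P
  · exact (Relation.ReflTransGen.single ⟨hA, hP, hAP⟩).tail ⟨hP, hB, RankOnePair_symm hBP⟩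
  obtain ⟨a, ha, ha1⟩ := RankOne.exists_left hAP
  obtain ⟨b, hb, hb1⟩ := RankOne.exists_left hBD
  have hab1 : a * b ≠ 1 := by
    intro he
    have : a ∈ B := by rw [eq_inv_of_mul_eq_one_left he]; exact inv_mem hb
    exact hne (RootSet.eq_of_inter hS hA hP hAP hB ha this ha1)
  obtain ⟨E, hE, hEab⟩ := hpart.2.1 (a * b)
    (mul_mem (Subgroup.mem_sup_left ha) (Subgroup.mem_sup_right hb)) hab1
  have hED := line_third_adj hS hB hE.1 hD hBD hAB ha ha1 hb hb1 hEab hab1
    ((hS.pair A hA D hD).imp_right fun h => h.resolve_left hAD)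
  have hba : b * a = a * b := (commutator_eq_bot_iff_commutes.1 hAB a ha b hb).symm
  have hEP := line_third_adj hS hA hE.1 hP hAP (by rw [Subgroup.commutator_comm]; exact hAB)
    hb hb1 ha ha1 (hba ▸ hEab) (hba ▸ hab1)
    ((hS.pair B hB P hP).imp_right fun h => h.resolve_left hBP)
  exact (((Relation.ReflTransGen.single ⟨hA, hP, hAP⟩).tail
    ⟨hP, hE.1, RankOnePair_symm hEP⟩).tail ⟨hE.1, hD, hED⟩).tail ⟨hD, hB, RankOnePair_symm hBD⟩

/-- In a class with some rank one pair the rank one graph is connected. -/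
theorem connected_of_class (hS : IsRootSubgroupSet S) (hcl : IsConjClassOfSubgroups S)
    {A₀ P₀ : Subgroup G} (hA₀ : A₀ ∈ S) (hP₀ : P₀ ∈ S) (h₀ : IsRankOnePair A₀ P₀) :
    IsConnectedFamily (FAdj S) S := by
  have hall : ∀ A ∈ S, ∃ P ∈ S, IsRankOnePair A P := by
    intro A hA
    obtain ⟨g, rfl⟩ := hcl.2 A₀ hA₀ A hA
    exact ⟨conjBy P₀ g, hS.conj_mem _ hP₀ g, RankOne.conj h₀ g⟩
  intro A hA B hB
  have step : ∀ E ∈ S, ∀ e ∈ E, Relation.ReflTransGen (FAdj S) A (conjBy A e) := by
    intro E hE e he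
    by_cases he1 : e = 1
    · rw [he1, conjBy_one]
    rcases hS.pair A hA E hE with h | h | h
    · rw [conjBy_eq_of_commutes fun x hx =>
        (commutator_eq_bot_iff_commutes.1 h x hx e he).symm]
    · have h' := reach_conj hS (Relation.ReflTransGen.single (show FAdj S A E from ⟨hA, hE, h⟩)) e
      rw [conjBy_self_of_mem he] at h'
      exact (Relation.ReflTransGen.single (show FAdj S A E from ⟨hA, hE, h⟩)).trans (reach_symm h')
    · obtain ⟨P, hP, hAP⟩ := hall A hA
      exact reach_of_line hS hA ⟨P, hP, hAP⟩ (hall _ (hS.conj_mem A hA e))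
        (CommCase.line_conj hS h hA hP hAP he he1)
  let K : Subgroup G :=
    { carrier := {g | Relation.ReflTransGen (FAdj S) A (conjBy A g)}
      one_mem' := by simp only [Set.mem_setOf_eq, conjBy_one]; exact .refl
      mul_mem' := by
        intro x y hx hy
        have := reach_conj hS hy x
        rw [conjBy_conjBy] at this
        exact Relation.ReflTransGen.trans hx this
      inv_mem' := by
        intro x hx
        have := reach_conj hS hx x⁻¹
        rw [conjBy_conjBy, inv_mul_cancel, conjBy_one] at this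
        exact reach_symm this }
  have hK : K = ⊤ := by
    rw [eq_top_iff, ← hS.generates]
    exact iSup₂_le fun E hE e he => step E hE e he
  obtain ⟨g, rfl⟩ := hcl.2 A hA B hB
  exact (hK ▸ Subgroup.mem_top g : g ∈ K)

/-- Along the rank one graph members are conjugate. -/
theorem conj_of_reach {A B : Subgroup G} (h : Relation.ReflTransGen (FAdj S) A B) :
    ∃ g : G, B = conjBy A g := by
  induction h with
  | refl => exact ⟨1, (conjBy_one A).symm⟩
  | tail _ hadj ih =>
    obtain ⟨g, rfl⟩ := ih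
    obtain ⟨x, -, hx⟩ := RankOne.right_mem_unipotent hadj.2.2
    exact ⟨x * g, by rw [hx, conjBy_conjBy]⟩

end CfsgLib.RootSubgroups
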