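import Cfsg.Agent.RootSubgroups.Components

/-!
# Images of sets of abstract root subgroups
-/

set_option autoImplicit false

namespace CfsgLib.RootSubgroups

open Cfsg

variable {G H : Type*} [Group G] [Group H] {S : Set (Subgroup G)}

theorem isNilpotent_of_commutative {K : Type*} [Group K] (h : IsMulCommutative K) :
    Group.IsNilpotent K := by
  refine ⟨⟨1, ?_⟩⟩
  rw [Subgroup.upperCentralSeries_one, eq_top_iff]
  exact fun x _ => Subgroup.mem_center_iff.2 fun y => mul_comm' y x

theorem map_conjBy (f : G →* H) (A : Subgroup G) (g : G) :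
    (conjBy A g).map f = conjBy (A.map f) (f g) := by
  rw [conjBy, conjBy, Subgroup.map_map, Subgroup.map_map]
  congr 1
  ext x; simp

theorem map_commutative (f : G →* H) (hS : IsRootSubgroupSet S) {A : Subgroup G} (hA : A ∈ S) :
    IsMulCommutative ↥(A.map f) := by
  refine ⟨⟨fun x y => Subtype.ext ?_⟩⟩
  obtain ⟨a, ha, hax⟩ := x.2
  obtain ⟨b, hb, hby⟩ := y.2
  change (x : H) * y = y * x
  rw [← hax, ← hby, ← map_mul, RootSet.comm_of_mem hS hA ha hb, map_mul]

/-- A rank one pair of members has equal images or images forming a rank one pair. -/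
theorem map_rankOne (f : G →* H) (hS : IsRootSubgroupSet S) {A B : Subgroup G} (hA : A ∈ S)
    (hB : B ∈ S) (h : IsRankOnePair A B) :
    A.map f = B.map f ∨ IsRankOnePair (A.map f) (B.map f) := by
  have hKle : f.ker ⊓ (A ⊔ B) ≤ A ⊔ B := inf_le_right
  have hKn : ∀ x ∈ A ⊔ B, ∀ n ∈ f.ker ⊓ (A ⊔ B), x * n * x⁻¹ ∈ f.ker ⊓ (A ⊔ B) :=
    fun x hx n hn => ⟨f.normal_ker.conj_mem n hn.1 x, (A ⊔ B).mul_mem ((A ⊔ B).mul_mem hx hn.2) ((A ⊔ B).inv_mem hx)⟩
  rcases RankOne.normal_dichotomy h hKle hKn with hK | hK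
  · left
    have hX : (A ⊔ B).map f = A.map f := by
      rw [← hK, Subgroup.map_sup, ((Subgroup.map_eq_bot_iff _).2 inf_le_left), bot_sup_eq]
    obtain ⟨x, hx, hxB⟩ := RankOne.right_mem_unipotent h
    rw [hxB, map_conjBy, conjBy_self_of_mem (hX ▸ Subgroup.mem_map_of_mem f hx)]
  · right
    have hKz : ∀ x ∈ A ⊔ B, f x = 1 → x ∈ Subgroup.centralizer ((A ⊔ B : Subgroup G) : Set G) :=
      fun x hx hfx => hK ⟨hfx, hx⟩
    have hinjA : ∀ a ∈ A, f a = 1 → a = 1 := fun a ha hfa =>
      RankOne.centralizer_inf_eq_one h ha (hKz a (Subgroup.mem_sup_left ha) hfa)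
    have hinjB : ∀ b ∈ B, f b = 1 → b = 1 := fun b hb hfb =>
      RankOne.centralizer_inf_eq_one (RankOnePair_symm h) hb
        (sup_comm A B ▸ hKz b (Subgroup.mem_sup_right hb) hfb)
    haveI hcA := map_commutative f hS hA
    haveI hcB := map_commutative f hS hB
    refine ⟨?_, isNilpotent_of_commutative hcA, isNilpotent_of_commutative hcB, ?_, ?_⟩
    · intro he
      obtain ⟨a, ha, ha1⟩ := RankOne.exists_left h
      apply ha1
      refine RankOne.eq_one_of_normalizes h ha (RootSet.eq_of_mem_unipotent_of_commutes h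
        (RankOne.right_mem_unipotent h)
        (RankOne.conjBy_mem_unipotent (RankOne.right_mem_unipotent h) (Subgroup.mem_sup_left ha))
        (commutator_eq_bot_iff_commutes.2 fun b hb x hx => ?_)).symm
      have hy : a⁻¹ * x * a ∈ B := mem_conjBy.1 hx
      set y := a⁻¹ * x * a with hydef
      have hker : f (a * y * a⁻¹ * y⁻¹) = 1 := by
        have h1 : f a * f y = f y * f a := by
          have hyA : f y ∈ A.map f := he ▸ Subgroup.mem_map_of_mem f hy
          exact congrArg Subtype.val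
            (mul_comm' (⟨f a, Subgroup.mem_map_of_mem f ha⟩ : A.map f) ⟨f y, hyA⟩)
        rw [map_mul, map_mul, map_mul, h1, map_inv, map_inv]
        simp [mul_assoc]
      have hc := Subgroup.mem_centralizer_iff.1 (hKz _ (mul_mem (mul_mem (mul_mem
        (Subgroup.mem_sup_left ha) (Subgroup.mem_sup_right hy))
        (inv_mem (Subgroup.mem_sup_left ha))) (inv_mem (Subgroup.mem_sup_right hy))) hker) b
        (Subgroup.mem_sup_right hb)
      have hx' : x = a * y * a⁻¹ * y⁻¹ * y := by simp [hydef, mul_assoc]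
      rw [hx', ← mul_assoc, hc, mul_assoc, RootSet.comm_of_mem hS hB hb hy, ← mul_assoc]
    · rintro _ ⟨a, ha, rfl⟩ ha1
      obtain ⟨b, hb, hb1, hab⟩ := h.cond_left a ha (fun h0 => ha1 (by rw [h0, map_one]))
      refine ⟨f b, Subgroup.mem_map_of_mem f hb, fun h0 => hb1 (hinjB b hb h0), ?_⟩
      rw [← map_inv, ← map_inv, ← map_conjBy, ← map_conjBy, hab]
    · rintro _ ⟨b, hb, rfl⟩ hb1
      obtain ⟨a, ha, ha1, hab⟩ := h.cond_right b hb (fun h0 => hb1 (by rw [h0, map_one]))
      refine ⟨f a, Subgroup.mem_map_of_mem f ha, fun h0 => ha1 (hinjA a ha h0), ?_⟩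
      rw [← map_inv, ← map_inv, ← map_conjBy, ← map_conjBy, hab]

theorem image_isRootSubgroupSet (f : G →* H) (hf : Function.Surjective f)
    (hS : IsRootSubgroupSet S) (hne : ∀ A ∈ S, A.map f ≠ ⊥) :
    IsRootSubgroupSet ((fun A : Subgroup G => A.map f) '' S) := by
  refine ⟨?_, ?_, ?_, ?_, ?_⟩
  · rintro _ ⟨A, hA, rfl⟩; exact map_commutative f hS hA
  · rintro _ ⟨A, hA, rfl⟩; exact hne A hA
  · rw [iSup_image, ← Subgroup.map_top_of_surjective f hf, ← hS.generates]
    simp_rw [Subgroup.map_iSup]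
  · rintro _ ⟨A, hA, rfl⟩ y
    obtain ⟨g, rfl⟩ := hf y
    exact ⟨conjBy A g, hS.conj_mem A hA g, map_conjBy f A g⟩
  · rintro _ ⟨A, hA, rfl⟩ _ ⟨B, hB, rfl⟩
    simp only
    rcases hS.pair A hA B hB with h | h | h
    · left; rw [← Subgroup.map_commutator, h, Subgroup.map_bot]
    · rcases map_rankOne f hS hA hB h with he | hr
      · left
        rw [← he, commutator_eq_bot_iff_commutes]
        haveI := map_commutative f hS hA
        intro x hx y hy
        exact congrArg Subtype.val (mul_comm' (⟨x, hx⟩ : A.map f) ⟨y, hy⟩)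
      · exact Or.inr (Or.inl hr)
    · right; right
      obtain ⟨h1, h2, h3, h4⟩ := h
      refine ⟨⟨_, h1, Subgroup.map_commutator A B f⟩, ?_, ?_, ?_⟩
      · rw [← Subgroup.map_commutator, ← Subgroup.map_sup]
        rintro _ ⟨c, hc, rfl⟩ _ ⟨x, hx, rfl⟩
        rw [← map_mul, h2 c hc x hx, map_mul]
      · rintro _ ⟨a, ha, rfl⟩ ha1
        rw [← Subgroup.map_commutator, ← h3 a ha (fun h0 => ha1 (by rw [h0, map_one])),
          MonoidHom.map_closure, ← Set.image_comp, Subgroup.coe_map, ← Set.image_comp]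
        congr 1
        exact Set.image_congr fun b _ => by simp
      · rintro _ ⟨b, hb, rfl⟩ hb1
        rw [← Subgroup.map_commutator, ← h4 b hb (fun h0 => hb1 (by rw [h0, map_one])),
          MonoidHom.map_closure, ← Set.image_comp, Subgroup.coe_map, ← Set.image_comp]
        congr 1
        exact Set.image_congr fun a _ => by simp

theorem image_connected (f : G →* H) (hS : IsRootSubgroupSet S)
    (hc : IsConnectedFamily (FAdj S) S) :
    IsConnectedFamily (FAdj ((fun A : Subgroup G => A.map f) '' S))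
      ((fun A : Subgroup G => A.map f) '' S) := by
  rintro _ ⟨A, hA, rfl⟩ _ ⟨B, hB, rfl⟩
  have hAB := hc A hA B hB
  clear hB
  induction hAB with
  | refl => exact .refl
  | @tail X Y _ hadj ih =>
    rcases map_rankOne f hS hadj.1 hadj.2.1 hadj.2.2 with he | hr
    · simpa [he] using ih
    · exact ih.tail ⟨⟨X, hadj.1, rfl⟩, ⟨Y, hadj.2.1, rfl⟩, hr⟩

end CfsgLib.RootSubgroups
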