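import Mathlib
import Cfsg.Prelude.Def_RootSubgroups
import Cfsg.Agent.Eq.Def_RootSubgroups

/-!
# Rank one pairs: elementary theory
-/

set_option autoImplicit false

namespace CfsgLib.RootSubgroups

open Cfsg

variable {G : Type*} [Group G]

theorem mem_conjBy {A : Subgroup G} {g x : G} : x ∈ conjBy A g ↔ g⁻¹ * x * g ∈ A := by
  constructor
  · rintro ⟨y, hy, rfl⟩
    simpa [mul_assoc] using hy
  · intro hx
    exact ⟨g⁻¹ * x * g, hx, by simp [mul_assoc]⟩

theorem conjBy_conjBy (A : Subgroup G) (g h : G) :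
    conjBy (conjBy A h) g = conjBy A (g * h) := by
  ext x; simp only [mem_conjBy]; simp [mul_assoc]

theorem conjBy_one (A : Subgroup G) : conjBy A 1 = A := by
  ext x; simp only [mem_conjBy]; simp

theorem conjBy_inj {A B : Subgroup G} {g : G} : conjBy A g = conjBy B g ↔ A = B := by
  refine ⟨fun h => ?_, fun h => h ▸ rfl⟩
  have := congrArg (fun C => conjBy C g⁻¹) h
  simpa [conjBy_conjBy, conjBy_one] using this

theorem conjBy_eq_iff {A B : Subgroup G} {g : G} : conjBy A g = B ↔ A = conjBy B g⁻¹ := by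
  rw [← conjBy_inj (g := g⁻¹), conjBy_conjBy]
  simp [conjBy_one]

theorem conjBy_eq_self_iff {A : Subgroup G} {g : G} :
    conjBy A g = A ↔ g ∈ Subgroup.normalizer (A : Set G) := by
  rw [Subgroup.mem_normalizer_iff]
  constructor
  · intro h x
    constructor
    · intro hx
      have : g * x * g⁻¹ ∈ conjBy A g := mem_conjBy.2 (by simpa [mul_assoc] using hx)
      rwa [h] at this
    · intro hx
      rw [← h, mem_conjBy] at hx
      simpa [mul_assoc] using hx
  · intro h
    ext x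
    rw [mem_conjBy]
    constructor
    · intro hx
      simpa [mul_assoc] using (h _).1 hx
    · intro hx
      refine (h _).2 ?_
      simpa [mul_assoc] using hx

theorem conjBy_self_of_mem {A : Subgroup G} {g : G} (hg : g ∈ A) : conjBy A g = A :=
  conjBy_eq_self_iff.2 (Subgroup.le_normalizer hg)

theorem conjBy_eq_of_commutes {B : Subgroup G} {g : G} (h : ∀ b ∈ B, g * b = b * g) :
    conjBy B g = B := by
  ext x
  rw [mem_conjBy]
  constructor
  · intro hx
    have h1 := h _ hx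
    have : x = g⁻¹ * x * g := by
      calc x = g * (g⁻¹ * x * g) * g⁻¹ := by simp [mul_assoc]
        _ = (g⁻¹ * x * g) * g * g⁻¹ := by rw [h1]
        _ = g⁻¹ * x * g := by simp [mul_assoc]
    rwa [this]
  · intro hx
    have h1 := h _ hx
    have : g⁻¹ * x * g = x := by
      rw [mul_assoc, ← h1]; simp
    rwa [this]

theorem conjBy_mono {A B : Subgroup G} (g : G) (h : A ≤ B) : conjBy A g ≤ conjBy B g :=
  Subgroup.map_mono h

theorem conjBy_sup (A B : Subgroup G) (g : G) : conjBy (A ⊔ B) g = conjBy A g ⊔ conjBy B g :=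
  Subgroup.map_sup _ _ _

theorem conjBy_bot (g : G) : conjBy (⊥ : Subgroup G) g = ⊥ := Subgroup.map_bot _

theorem commutator_eq_bot_iff_commutes {A B : Subgroup G} :
    ⁅A, B⁆ = ⊥ ↔ ∀ a ∈ A, ∀ b ∈ B, a * b = b * a := by
  rw [Subgroup.commutator_eq_bot_iff_le_centralizer]
  constructor
  · intro h a ha b hb
    exact ((Subgroup.mem_centralizer_iff.1 (h ha)) b hb).symm
  · intro h a ha
    exact Subgroup.mem_centralizer_iff.2 fun b hb => (h a ha b hb).symm

/-- Generator form of invariance of a set of subgroups under conjugation by `A ⊔ B`. -/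
theorem conjBy_mem_of_sup {A B : Subgroup G} {T : Set (Subgroup G)}
    (hA : ∀ C ∈ T, ∀ a ∈ A, conjBy C a ∈ T) (hB : ∀ C ∈ T, ∀ b ∈ B, conjBy C b ∈ T)
    {C : Subgroup G} (hC : C ∈ T) {x : G} (hx : x ∈ A ⊔ B) : conjBy C x ∈ T := by
  have key : ∀ C ∈ T, conjBy C x ∈ T ∧ conjBy C x⁻¹ ∈ T := by
    rw [Subgroup.sup_eq_closure] at hx
    induction hx using Subgroup.closure_induction with
    | mem y hy =>
      intro C hC
      rcases hy with hy | hy
      · exact ⟨hA C hC y hy, hA C hC _ (inv_mem hy)⟩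
      · exact ⟨hB C hC y hy, hB C hC _ (inv_mem hy)⟩
    | one => intro C hC; simp [conjBy_one, hC]
    | mul y z _ _ ihy ihz =>
      intro C hC
      constructor
      · rw [← conjBy_conjBy]; exact (ihy _ (ihz C hC).1).1
      · rw [mul_inv_rev, ← conjBy_conjBy]; exact (ihz _ (ihy C hC).2).2
    | inv y _ ih =>
      intro C hC
      rw [inv_inv]
      exact ⟨(ih C hC).2, (ih C hC).1⟩
  exact (key C hC).1

namespace RankOne

variable {A B : Subgroup G}

theorem symm (h : IsRankOnePair A B) : IsRankOnePair B A := RankOnePair_symm h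

/-- A non-identity element of `A` does not normalize `B`. -/
theorem eq_one_of_normalizes (h : IsRankOnePair A B) {a : G} (ha : a ∈ A)
    (hn : conjBy B a = B) : a = 1 := by
  by_contra hne
  obtain ⟨b, hb, -, hab⟩ := h.cond_left a⁻¹ (inv_mem ha) (by simpa using hne)
  rw [inv_inv, hn, conjBy_eq_iff, inv_inv, conjBy_self_of_mem hb] at hab
  exact h.ne hab

theorem inf_normalizer (h : IsRankOnePair A B) :
    A ⊓ Subgroup.normalizer (B : Set G) = ⊥ := by
  rw [Subgroup.eq_bot_iff_forall]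
  intro a ha
  exact eq_one_of_normalizes h ha.1 (conjBy_eq_self_iff.2 ha.2)

theorem eq_one_of_commutes (h : IsRankOnePair A B) {a : G} (ha : a ∈ A)
    (hc : ∀ b ∈ B, a * b = b * a) : a = 1 :=
  eq_one_of_normalizes h ha (conjBy_eq_of_commutes hc)

theorem left_ne_bot (h : IsRankOnePair A B) : A ≠ ⊥ := by
  intro hA
  apply h.ne
  have hB : B = ⊥ := by
    rw [Subgroup.eq_bot_iff_forall]
    intro b hb
    by_contra hne
    obtain ⟨a, ha, ha1, -⟩ := h.cond_right b hb hne
    rw [hA] at ha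
    exact ha1 ha
  rw [hA, hB]

theorem exists_left (h : IsRankOnePair A B) : ∃ a ∈ A, a ≠ 1 := by
  by_contra hc
  push Not at hc
  exact left_ne_bot h (by rw [Subgroup.eq_bot_iff_forall]; exact hc)

theorem commutator_ne_bot (h : IsRankOnePair A B) : ⁅A, B⁆ ≠ ⊥ := by
  intro hc
  obtain ⟨a, ha, ha1⟩ := exists_left h
  exact ha1 (eq_one_of_commutes h ha (commutator_eq_bot_iff_commutes.1 hc a ha))

theorem conj (h : IsRankOnePair A B) (g : G) : IsRankOnePair (conjBy A g) (conjBy B g) := by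
  have key : ∀ A B : Subgroup G, RankOneCondition A B →
      RankOneCondition (conjBy A g) (conjBy B g) := by
    intro A B hc a ha ha1
    obtain ⟨b, hb, hb1, hab⟩ := hc (g⁻¹ * a * g) (mem_conjBy.1 ha) (by
      intro h1
      apply ha1
      calc a = g * (g⁻¹ * a * g) * g⁻¹ := by simp [mul_assoc]
        _ = 1 := by rw [h1]; simp)
    refine ⟨g * b * g⁻¹, mem_conjBy.2 (by simpa [mul_assoc] using hb), ?_, ?_⟩
    · intro h1
      apply hb1
      calc b = g⁻¹ * (g * b * g⁻¹) * g := by simp [mul_assoc]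
        _ = 1 := by rw [h1]; simp
    · rw [conjBy_conjBy, conjBy_conjBy]
      have := congrArg (fun C => conjBy C g) hab
      simpa [conjBy_conjBy, mul_assoc] using this
  exact ⟨fun he => h.ne (conjBy_inj.1 he),
    (Group.isNilpotent_congr (A.equivMapOfInjective _ (MulAut.conj g).injective)).1 h.nilpotent_left,
    (Group.isNilpotent_congr (B.equivMapOfInjective _ (MulAut.conj g).injective)).1 h.nilpotent_right,
    key A B h.cond_left, key B A h.cond_right⟩

theorem left_mem_unipotent : A ∈ unipotentSubgroups A B :=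
  ⟨1, one_mem _, (conjBy_one A).symm⟩

theorem right_mem_unipotent (h : IsRankOnePair A B) : B ∈ unipotentSubgroups A B := by
  obtain ⟨a, ha, ha1⟩ := exists_left h
  obtain ⟨b, hb, -, hab⟩ := h.cond_left a ha ha1
  refine ⟨a * b⁻¹, mul_mem (Subgroup.mem_sup_left ha) (Subgroup.mem_sup_right (inv_mem hb)), ?_⟩
  rw [← conjBy_conjBy, hab, conjBy_conjBy]
  simp [conjBy_one]

theorem conjBy_mem_unipotent {C : Subgroup G} (hC : C ∈ unipotentSubgroups A B) {x : G}
    (hx : x ∈ A ⊔ B) : conjBy C x ∈ unipotentSubgroups A B := by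
  obtain ⟨y, hy, rfl⟩ := hC
  exact ⟨x * y, mul_mem hx hy, conjBy_conjBy A x y⟩

/-- The conjugates of `A` under `⟨A, B⟩` are `A` and the conjugates of `B` under `A`. -/
theorem mem_unipotent_iff (h : IsRankOnePair A B) {C : Subgroup G} :
    C ∈ unipotentSubgroups A B ↔ C = A ∨ ∃ a ∈ A, C = conjBy B a := by
  constructor
  · intro hC
    let T : Set (Subgroup G) := {C | C = A ∨ ∃ a ∈ A, C = conjBy B a}
    have hA : ∀ C ∈ T, ∀ a ∈ A, conjBy C a ∈ T := by
      rintro C (rfl | ⟨a', ha', rfl⟩) a ha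
      · exact Or.inl (conjBy_self_of_mem ha)
      · exact Or.inr ⟨a * a', mul_mem ha ha', conjBy_conjBy _ _ _⟩
    have step : ∀ b ∈ B, conjBy A b ∈ T := by
      intro b hb
      by_cases hb1 : b = 1
      · exact Or.inl (by rw [hb1, conjBy_one])
      · obtain ⟨a, ha, -, hab⟩ := h.cond_right b⁻¹ (inv_mem hb) (by simpa using hb1)
        rw [inv_inv] at hab
        exact Or.inr ⟨a⁻¹, inv_mem ha, hab.symm⟩
    have hB : ∀ C ∈ T, ∀ b ∈ B, conjBy C b ∈ T := by
      rintro C (rfl | ⟨a, ha, rfl⟩) b hb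
      · exact step b hb
      · by_cases ha1 : a = 1
        · refine Or.inr ⟨1, one_mem _, ?_⟩
          rw [ha1, conjBy_one, conjBy_self_of_mem hb]
        · obtain ⟨b', hb', -, hab⟩ := h.cond_left a⁻¹ (inv_mem ha) (by simpa using ha1)
          rw [inv_inv] at hab
          rw [← hab, conjBy_conjBy]
          exact step _ (mul_mem hb (inv_mem hb'))
    obtain ⟨x, hx, rfl⟩ := hC
    exact conjBy_mem_of_sup hA hB (Or.inl rfl) hx
  · rintro (rfl | ⟨a, ha, rfl⟩)
    · exact left_mem_unipotent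
    · exact conjBy_mem_unipotent (right_mem_unipotent h) (Subgroup.mem_sup_left ha)

theorem unipotent_symm (h : IsRankOnePair A B) :
    unipotentSubgroups B A = unipotentSubgroups A B := by
  obtain ⟨x, hx, hxB⟩ := right_mem_unipotent h
  ext C
  constructor
  · rintro ⟨y, hy, rfl⟩
    exact conjBy_mem_unipotent (right_mem_unipotent h) (sup_comm B A ▸ hy)
  · rintro ⟨y, hy, rfl⟩
    refine ⟨y * x⁻¹, sup_comm A B ▸ mul_mem hy (inv_mem hx), ?_⟩
    rw [hxB, conjBy_conjBy]; simp

theorem exists_pair_map (h : IsRankOnePair A B) {C D : Subgroup G}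
    (hC : C ∈ unipotentSubgroups A B) (hD : D ∈ unipotentSubgroups A B) (hne : C ≠ D) :
    ∃ x ∈ A ⊔ B, conjBy A x = C ∧ conjBy B x = D := by
  obtain ⟨y, hy, rfl⟩ := hC
  have hD' := conjBy_mem_unipotent hD (inv_mem hy)
  rcases (mem_unipotent_iff h).1 hD' with hA | ⟨a, ha, haB⟩
  · rw [conjBy_eq_iff, inv_inv] at hA
    exact absurd hA.symm hne
  · rw [conjBy_eq_iff, inv_inv, conjBy_conjBy] at haB
    exact ⟨y * a, mul_mem hy (Subgroup.mem_sup_left ha),
      by rw [← conjBy_conjBy, conjBy_self_of_mem ha], haB.symm⟩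

/-- Two different unipotent subgroups form a rank one pair. -/
theorem pair_of_mem (h : IsRankOnePair A B) {C D : Subgroup G}
    (hC : C ∈ unipotentSubgroups A B) (hD : D ∈ unipotentSubgroups A B) (hne : C ≠ D) :
    IsRankOnePair C D := by
  obtain ⟨x, -, rfl, rfl⟩ := exists_pair_map h hC hD hne
  exact conj h x

theorem le_sup_of_mem {C : Subgroup G} (hC : C ∈ unipotentSubgroups A B) : C ≤ A ⊔ B := by
  obtain ⟨x, hx, rfl⟩ := hC
  intro c hc
  have hc' : x⁻¹ * c * x ∈ A ⊔ B := Subgroup.mem_sup_left (mem_conjBy.1 hc)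
  have := mul_mem (mul_mem hx hc') (inv_mem hx)
  simpa [mul_assoc] using this

theorem sup_eq_of_mem (h : IsRankOnePair A B) {C D : Subgroup G}
    (hC : C ∈ unipotentSubgroups A B) (hD : D ∈ unipotentSubgroups A B) (hne : C ≠ D) :
    C ⊔ D = A ⊔ B := by
  obtain ⟨x, hx, rfl, rfl⟩ := exists_pair_map h hC hD hne
  rw [← conjBy_sup, conjBy_self_of_mem hx]

theorem regular (h : IsRankOnePair A B) {C D : Subgroup G}
    (hC : C ∈ unipotentSubgroups A B) (hD : D ∈ unipotentSubgroups A B)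
    (hCA : C ≠ A) (hDA : D ≠ A) : ∃! a : G, a ∈ A ∧ conjBy C a = D := by
  obtain ⟨c, hc, rfl⟩ := ((mem_unipotent_iff h).1 hC).resolve_left hCA
  obtain ⟨d, hd, rfl⟩ := ((mem_unipotent_iff h).1 hD).resolve_left hDA
  refine ⟨d * c⁻¹, ⟨mul_mem hd (inv_mem hc), by rw [conjBy_conjBy]; simp⟩, ?_⟩
  rintro a ⟨ha, hac⟩
  rw [conjBy_conjBy, conjBy_eq_iff, conjBy_conjBy] at hac
  have h1 : (a * c)⁻¹ * d = 1 :=
    eq_one_of_normalizes h (mul_mem (inv_mem (mul_mem ha hc)) hd) hac.symm
  have h2 : d = a * c := (inv_mul_eq_one.1 h1).symm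
  simp [h2]

theorem partner_unique (h : IsRankOnePair A B) {a : G} (ha : a ∈ A) (ha1 : a ≠ 1) :
    ∃! b : G, b ∈ B ∧ b ≠ 1 ∧ conjBy A b⁻¹ = conjBy B a⁻¹ := by
  obtain ⟨b, hb, hb1, hab⟩ := h.cond_left a ha ha1
  refine ⟨b, ⟨hb, hb1, hab⟩, ?_⟩
  rintro b' ⟨hb', -, hab'⟩
  rw [← hab, conjBy_eq_iff, conjBy_conjBy, inv_inv] at hab'
  have h1 : b' * b⁻¹ = 1 :=
    eq_one_of_normalizes (symm h) (mul_mem hb' (inv_mem hb)) hab'.symm
  exact (mul_inv_eq_one.1 h1)

/-- An element of the rank one group centralizing two unipotent subgroups is central in it. -/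
theorem commutes_sup {C D : Subgroup G} {z : G} (hC : ∀ c ∈ C, z * c = c * z)
    (hD : ∀ d ∈ D, z * d = d * z) : z ∈ Subgroup.centralizer ((C ⊔ D : Subgroup G) : Set G) := by
  have : C ⊔ D ≤ Subgroup.centralizer ({z} : Set G) :=
    sup_le (fun c hc => Subgroup.mem_centralizer_singleton_iff.2 (hC c hc).symm)
      (fun d hd => Subgroup.mem_centralizer_singleton_iff.2 (hD d hd).symm)
  exact Subgroup.mem_centralizer_iff.2 fun x hx =>
    Subgroup.mem_centralizer_singleton_iff.1 (this hx)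

theorem centralizer_inf_eq_one (h : IsRankOnePair A B) {z : G} (hzA : z ∈ A)
    (hz : z ∈ Subgroup.centralizer ((A ⊔ B : Subgroup G) : Set G)) : z = 1 :=
  eq_one_of_commutes h hzA fun b hb =>
    (Subgroup.mem_centralizer_iff.1 hz b (Subgroup.mem_sup_right hb)).symm

theorem eq_one_of_normal_fix (h : IsRankOnePair A B) {N : Subgroup G}
    (hN : ∀ x ∈ A ⊔ B, ∀ n ∈ N, x * n * x⁻¹ ∈ N) (hfixA : ∀ n ∈ N, conjBy A n = A)
    (hfixB : ∀ n ∈ N, conjBy B n = B) :
    ∀ n ∈ N, ∀ a ∈ A, n * a = a * n := by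
  intro n hn a ha
  have h1 : n * a * n⁻¹ * a⁻¹ ∈ A :=
    mul_mem ((hfixA n hn) ▸ mem_conjBy.2 (by simpa [mul_assoc] using ha)) (inv_mem ha)
  have h2 : n * a * n⁻¹ * a⁻¹ ∈ N := by
    have := mul_mem hn (hN a (Subgroup.mem_sup_left ha) n⁻¹ (inv_mem hn))
    simpa [mul_assoc] using this
  have h3 := eq_one_of_normalizes h h1 (hfixB _ h2)
  calc n * a = n * a * n⁻¹ * a⁻¹ * (a * n) := by simp [mul_assoc]
    _ = a * n := by rw [h3, one_mul]

/-- A subgroup of the rank one group normalized by it supplements `A` or is central in it. -/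
theorem normal_dichotomy (h : IsRankOnePair A B) {N : Subgroup G} (hle : N ≤ A ⊔ B)
    (hN : ∀ x ∈ A ⊔ B, ∀ n ∈ N, x * n * x⁻¹ ∈ N) :
    N ⊔ A = A ⊔ B ∨ N ≤ Subgroup.centralizer ((A ⊔ B : Subgroup G) : Set G) := by
  by_cases hfix : ∀ n ∈ N, conjBy A n = A
  · right
    have hfixB : ∀ n ∈ N, conjBy B n = B := by
      intro n hn
      obtain ⟨x, hx, hxB⟩ := right_mem_unipotent h
      have h1 := hfix _ (hN x⁻¹ (inv_mem hx) n hn)
      rw [inv_inv] at h1
      rw [hxB, conjBy_conjBy]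
      have h2 := congrArg (fun C => conjBy C x) h1
      simpa [conjBy_conjBy, mul_assoc] using h2
    intro n hn
    exact commutes_sup (eq_one_of_normal_fix h hN hfix hfixB n hn)
      (eq_one_of_normal_fix (symm h) (sup_comm A B ▸ hN) hfixB hfix n hn)
  · left
    push Not at hfix
    obtain ⟨n, hn, hne⟩ := hfix
    have hC : conjBy A n ∈ unipotentSubgroups A B := ⟨n, hle hn, rfl⟩
    refine le_antisymm (sup_le hle le_sup_left) ?_
    rw [← sup_eq_of_mem h hC left_mem_unipotent hne]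
    refine sup_le (fun x hx => ?_) le_sup_right
    have := mul_mem (mul_mem (Subgroup.mem_sup_left (T := A) hn)
      (Subgroup.mem_sup_right (mem_conjBy.1 hx))) (inv_mem (Subgroup.mem_sup_left (T := A) hn))
    simpa [mul_assoc] using this

theorem group_dichotomy {X : Type*} [Group X] {A B : Subgroup X} (h : IsRankOneGroup X A B)
    (N : Subgroup X) (hN : N.Normal) : N ⊔ A = ⊤ ∨ N ≤ Subgroup.center X := by
  rcases normal_dichotomy h.2 (N := N) (by rw [h.1]; exact le_top)
    (fun x _ n hn => hN.conj_mem n hn x) with h' | h'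
  · exact Or.inl (h'.trans h.1)
  · right
    rw [h.1, Subgroup.coe_top, Subgroup.centralizer_univ] at h'
    exact h'

theorem center_ne_top {X : Type*} [Group X] {A B : Subgroup X} (h : IsRankOneGroup X A B) :
    Subgroup.center X ≠ ⊤ := by
  intro hc
  exact commutator_ne_bot h.2 (commutator_eq_bot_iff_commutes.2 fun a _ b _ =>
    (Subgroup.mem_center_iff.1 (hc ▸ Subgroup.mem_top b)) a)

end RankOne

end CfsgLib.RootSubgroups
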