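import Cfsg.Agent.RootSubgroups.RankOne

/-!
# Sets of abstract root subgroups: elementary lemmas
-/

set_option autoImplicit false

namespace CfsgLib.RootSubgroups

open Cfsg

variable {G : Type*} [Group G] {S : Set (Subgroup G)}

namespace RootSet

theorem ne_bot_commCase (hS : IsRootSubgroupSet S) {A B : Subgroup G}
    (h : RootCommutatorCase S A B) : ⁅A, B⁆ ≠ ⊥ :=
  hS.ne_bot _ h.1

/-- In the commutator case a non-identity element of `A` does not centralize `B`. -/
theorem commCase_not_commutes (hS : IsRootSubgroupSet S) {A B : Subgroup G}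
    (h : RootCommutatorCase S A B) {a : G} (ha : a ∈ A) (ha1 : a ≠ 1)
    (hc : ∀ b ∈ B, a * b = b * a) : False := by
  apply ne_bot_commCase hS h
  rw [← h.2.2.1 a ha ha1, Subgroup.closure_eq_bot_iff]
  rintro _ ⟨b, hb, rfl⟩
  have : a * b * a⁻¹ * b⁻¹ = 1 := by rw [hc b hb]; simp [mul_assoc]
  simpa using this

/-- In the commutator case the conjugates of `B` under `A` commute elementwise with `B`. -/
theorem commCase_conj_commutes (hS : IsRootSubgroupSet S) {A B : Subgroup G} (hB : B ∈ S)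
    (h : RootCommutatorCase S A B) {a : G} (ha : a ∈ A) :
    ∀ b ∈ B, ∀ x ∈ conjBy B a, b * x = x * b := by
  intro b hb x hx
  have hy : a⁻¹ * x * a ∈ B := mem_conjBy.1 hx
  set y := a⁻¹ * x * a with hy'
  have hF : a * y * a⁻¹ * y⁻¹ ∈ ⁅A, B⁆ := Subgroup.commutator_mem_commutator ha hy
  have hxy : x = (a * y * a⁻¹ * y⁻¹) * y := by simp [hy', mul_assoc]
  have h1 := h.2.1 _ hF b (Subgroup.mem_sup_right hb)
  haveI := hS.commutative B hB
  have h2 : b * y = y * b := congrArg Subtype.val (mul_comm' (⟨b, hb⟩ : B) ⟨y, hy⟩)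
  rw [hxy]
  calc b * (a * y * a⁻¹ * y⁻¹ * y) = (b * (a * y * a⁻¹ * y⁻¹)) * y := by simp [mul_assoc]
    _ = (a * y * a⁻¹ * y⁻¹) * (b * y) := by rw [← h1]; simp [mul_assoc]
    _ = (a * y * a⁻¹ * y⁻¹ * y) * b := by rw [h2]; simp [mul_assoc]

theorem comm_of_mem (hS : IsRootSubgroupSet S) {A : Subgroup G} (hA : A ∈ S) {a b : G}
    (ha : a ∈ A) (hb : b ∈ A) : a * b = b * a := by
  haveI := hS.commutative A hA
  exact congrArg Subtype.val (mul_comm' (⟨a, ha⟩ : A) ⟨b, hb⟩)

/-- A root element of the form `z a`, with `z` centralizing a rank one pair `A, B` and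
`1 ≠ a ∈ A`, lies only in the member `A`. -/
theorem eq_of_translate_mem (hS : IsRootSubgroupSet S) {A B E : Subgroup G} (hA : A ∈ S)
    (hB : B ∈ S) (hAB : IsRankOnePair A B) (hE : E ∈ S) {z a : G}
    (hz : z ∈ Subgroup.centralizer ((A ⊔ B : Subgroup G) : Set G))
    (ha : a ∈ A) (ha1 : a ≠ 1) (hmem : z * a ∈ E) (hne : z * a ≠ 1) : E = A := by
  have hzc : ∀ x ∈ A ⊔ B, z * x = x * z := fun x hx =>
    (Subgroup.mem_centralizer_iff.1 hz x hx).symm
  have heA : ∀ x ∈ A, z * a * x = x * (z * a) := by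
    intro x hx
    rw [mul_assoc, comm_of_mem hS hA ha hx, ← mul_assoc, hzc x (Subgroup.mem_sup_left hx),
      mul_assoc]
  have hEA : ⁅E, A⁆ = ⊥ := by
    rcases hS.pair E hE A hA with h | h | h
    · exact h
    · exact absurd (RankOne.eq_one_of_commutes h hmem heA) hne
    · exact (commCase_not_commutes hS h hmem hne heA).elim
  have hzB : conjBy B z = B :=
    conjBy_eq_of_commutes fun b hb => hzc b (Subgroup.mem_sup_right hb)
  rcases hS.pair E hE B hB with h | h | h
  · -- `E` centralizes `B`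
    exfalso
    apply ha1
    apply RankOne.eq_one_of_commutes hAB ha
    intro b hb
    have h1 := commutator_eq_bot_iff_commutes.1 h _ hmem b hb
    rw [mul_assoc, ← mul_assoc b z a, ← hzc b (Subgroup.mem_sup_right hb), mul_assoc] at h1
    exact mul_left_cancel h1
  · -- rank one
    obtain ⟨b, hb, -, hab⟩ := h.cond_left (z * a) hmem hne
    obtain ⟨b', hb', -, hab'⟩ := hAB.cond_left a ha ha1
    have hcomm : a⁻¹ * z⁻¹ = (z * a)⁻¹ := (mul_inv_rev z a).symm
    have hzB' : conjBy B z⁻¹ = B := conjBy_eq_iff.2 (by rw [inv_inv, hzB])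
    rw [← hcomm, ← conjBy_conjBy, hzB', ← hab', conjBy_eq_iff, inv_inv, conjBy_conjBy] at hab
    by_contra hEne
    have hmemE : E ∈ unipotentSubgroups A B :=
      ⟨b * b'⁻¹, Subgroup.mem_sup_right (mul_mem hb (inv_mem hb')), hab⟩
    exact RankOne.commutator_ne_bot
      (RankOne.pair_of_mem hAB hmemE RankOne.left_mem_unipotent hEne) hEA
  · -- commutator case
    exfalso
    have hc := commCase_conj_commutes hS hB h (a := (z * a)⁻¹) (inv_mem hmem)
    have hzB' : conjBy B z⁻¹ = B := conjBy_eq_iff.2 (by rw [inv_inv, hzB])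
    rw [mul_inv_rev, ← conjBy_conjBy, hzB'] at hc
    have hne' : B ≠ conjBy B a⁻¹ := fun he =>
      ha1 (inv_eq_one.1 (RankOne.eq_one_of_normalizes hAB (inv_mem ha) he.symm))
    exact RankOne.commutator_ne_bot (RankOne.pair_of_mem hAB (RankOne.right_mem_unipotent hAB)
      (RankOne.conjBy_mem_unipotent (RankOne.right_mem_unipotent hAB)
        (Subgroup.mem_sup_left (inv_mem ha))) hne') (commutator_eq_bot_iff_commutes.2 hc)

theorem exists_partner {A : Subgroup G} (hA : A ∈ S) (h : ¬ IsIsolatedIn (FAdj S) S A) :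
    ∃ B ∈ S, IsRankOnePair A B := by
  by_contra hc
  push Not at hc
  exact h ⟨hA, fun B => ⟨fun hAB => hc B hAB.2.1 hAB.2.2,
    fun hBA => hc B hBA.1 (RankOnePair_symm hBA.2.2)⟩⟩

/-- Trivial intersection for a member with a rank one partner. -/
theorem eq_of_inter (hS : IsRootSubgroupSet S) {A B E : Subgroup G} (hA : A ∈ S)
    (hB : B ∈ S) (hAB : IsRankOnePair A B) (hE : E ∈ S) {a : G}
    (ha : a ∈ A) (haE : a ∈ E) (ha1 : a ≠ 1) : E = A :=
  eq_of_translate_mem hS hA hB hAB hE (one_mem _) ha ha1 (by simpa using haE)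
    (by simpa using ha1)

theorem translate_not_root (hS : IsRootSubgroupSet S) {A B : Subgroup G} (hA : A ∈ S)
    (hB : B ∈ S) (hAB : IsRankOnePair A B) {z : G}
    (hz : z ∈ Subgroup.centralizer ((A ⊔ B : Subgroup G) : Set G)) (hz1 : z ≠ 1) :
    ∀ a ∈ A, a ≠ 1 → z * a ∉ rootElements S := by
  rintro a ha ha1 ⟨hne, E, hE, hmem⟩
  have hEA := eq_of_translate_mem hS hA hB hAB hE hz ha ha1 hmem hne
  subst hEA
  have hzA : z ∈ E := by simpa using mul_mem hmem (inv_mem ha)
  exact hz1 (RankOne.centralizer_inf_eq_one hAB hzA hz)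

/-- A member commuting elementwise with both members of a pair with a partner: distinct
commuting members of one rank one group do not exist. -/
theorem eq_of_mem_unipotent_of_commutes {A B C D : Subgroup G} (h : IsRankOnePair A B)
    (hC : C ∈ unipotentSubgroups A B) (hD : D ∈ unipotentSubgroups A B) (hc : ⁅C, D⁆ = ⊥) :
    C = D := by
  by_contra hne
  exact RankOne.commutator_ne_bot (RankOne.pair_of_mem h hC hD hne) hc

end RootSet

end CfsgLib.RootSubgroups
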