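import Cfsg.Agent.RootSubgroups.RankOne

/-!
# SL₂ as a special rank one group
-/

set_option autoImplicit false

namespace CfsgLib.RootSubgroups.SLTwo

open Cfsg Matrix

variable {k : Type*} [Field k]

/-- Upper unitriangular matrix with entry `s`. -/
def up (s : k) : Matrix.SpecialLinearGroup (Fin 2) k :=
  ⟨!![1, s; 0, 1], by simp [Matrix.det_fin_two]⟩

/-- Lower unitriangular matrix with entry `t`. -/
def low (t : k) : Matrix.SpecialLinearGroup (Fin 2) k :=
  ⟨!![1, 0; t, 1], by simp [Matrix.det_fin_two]⟩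

@[simp] theorem coe_up (s : k) :
    (up s : Matrix (Fin 2) (Fin 2) k) = !![1, s; 0, 1] := rfl

@[simp] theorem coe_low (t : k) :
    (low t : Matrix (Fin 2) (Fin 2) k) = !![1, 0; t, 1] := rfl

theorem up_zero : up (0 : k) = 1 := by
  apply Subtype.ext
  simp [Matrix.one_fin_two]

theorem low_zero : low (0 : k) = 1 := by
  apply Subtype.ext
  simp [Matrix.one_fin_two]

theorem up_mul (s s' : k) : up s * up s' = up (s + s') := by
  apply Subtype.ext
  simp [Matrix.mul_fin_two, add_comm]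

theorem low_mul (t t' : k) : low t * low t' = low (t + t') := by
  apply Subtype.ext
  simp [Matrix.mul_fin_two]

theorem up_inv (s : k) : (up s)⁻¹ = up (-s) :=
  inv_eq_of_mul_eq_one_right (by rw [up_mul, add_neg_cancel, up_zero])

theorem low_inv (t : k) : (low t)⁻¹ = low (-t) :=
  inv_eq_of_mul_eq_one_right (by rw [low_mul, add_neg_cancel, low_zero])

theorem mem_upper {g : Matrix.SpecialLinearGroup (Fin 2) k} :
    g ∈ upperUnipotentSL2 k ↔ ∃ s, g = up s := by
  let U : Subgroup (Matrix.SpecialLinearGroup (Fin 2) k) :=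
    { carrier := Set.range up
      one_mem' := ⟨0, up_zero⟩
      mul_mem' := by rintro _ _ ⟨s, rfl⟩ ⟨s', rfl⟩; exact ⟨_, (up_mul s s').symm⟩
      inv_mem' := by rintro _ ⟨s, rfl⟩; exact ⟨_, (up_inv s).symm⟩ }
  constructor
  · intro hg
    have hle : upperUnipotentSL2 k ≤ U := by
      rw [upperUnipotentSL2, Subgroup.closure_le]
      rintro x ⟨h10, h00, h11⟩
      refine ⟨x.1 0 1, Subtype.ext ?_⟩
      ext i j
      fin_cases i <;> fin_cases j <;> simp [h10, h00, h11]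
    obtain ⟨s, hs⟩ := hle hg
    exact ⟨s, hs.symm⟩
  · rintro ⟨s, rfl⟩
    exact Subgroup.subset_closure ⟨by simp, by simp, by simp⟩

theorem mem_lower {g : Matrix.SpecialLinearGroup (Fin 2) k} :
    g ∈ lowerUnipotentSL2 k ↔ ∃ t, g = low t := by
  let L : Subgroup (Matrix.SpecialLinearGroup (Fin 2) k) :=
    { carrier := Set.range low
      one_mem' := ⟨0, low_zero⟩
      mul_mem' := by rintro _ _ ⟨s, rfl⟩ ⟨s', rfl⟩; exact ⟨_, (low_mul s s').symm⟩
      inv_mem' := by rintro _ ⟨s, rfl⟩; exact ⟨_, (low_inv s).symm⟩ }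
  constructor
  · intro hg
    have hle : lowerUnipotentSL2 k ≤ L := by
      rw [lowerUnipotentSL2, Subgroup.closure_le]
      rintro x ⟨h01, h00, h11⟩
      refine ⟨x.1 1 0, Subtype.ext ?_⟩
      ext i j
      fin_cases i <;> fin_cases j <;> simp [h01, h00, h11]
    obtain ⟨s, hs⟩ := hle hg
    exact ⟨s, hs.symm⟩
  · rintro ⟨s, rfl⟩
    exact Subgroup.subset_closure ⟨by simp, by simp, by simp⟩

/-- The basic conjugation identity. -/
theorem conj_identity (t x : k) (ht : t ≠ 0) :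
    up (-t⁻¹) * low x * up t⁻¹ = low (-t) * up (-(t⁻¹ * t⁻¹ * x)) * low t := by
  apply Subtype.ext
  simp only [Matrix.SpecialLinearGroup.coe_mul, coe_up, coe_low, Matrix.mul_fin_two]
  ext i j
  fin_cases i <;> fin_cases j <;> simp <;> field_simp <;> ring

theorem conjBy_eq (t : k) (ht : t ≠ 0) :
    conjBy (lowerUnipotentSL2 k) (up t⁻¹)⁻¹ = conjBy (upperUnipotentSL2 k) (low t)⁻¹ := by
  ext g
  rw [mem_conjBy, mem_conjBy, inv_inv, inv_inv, mem_lower, mem_upper]
  constructor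
  · rintro ⟨x, hx⟩
    refine ⟨-(t⁻¹ * t⁻¹ * x), ?_⟩
    have hg : g = up (-t⁻¹) * low x * up t⁻¹ := by
      rw [← hx, ← up_inv]; simp [mul_assoc]
    rw [hg, conj_identity t x ht, ← low_inv]
    simp [mul_assoc]
  · rintro ⟨y, hy⟩
    refine ⟨-(t * t * y), ?_⟩
    have hg : g = low (-t) * up y * low t := by
      rw [← hy, ← low_inv]; simp [mul_assoc]
    have : y = -(t⁻¹ * t⁻¹ * -(t * t * y)) := by field_simp
    rw [hg, this, ← conj_identity t _ ht, ← up_inv, ← this]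
    simp [mul_assoc]

theorem isRankOnePair : IsRankOnePair (lowerUnipotentSL2 k) (upperUnipotentSL2 k) := by
  have hL : IsMulCommutative (lowerUnipotentSL2 k) := ⟨⟨fun x y => Subtype.ext (by
    obtain ⟨s, hs⟩ := mem_lower.1 x.2
    obtain ⟨t, ht⟩ := mem_lower.1 y.2
    simp [hs, ht, low_mul, add_comm])⟩⟩
  have hU : IsMulCommutative (upperUnipotentSL2 k) := ⟨⟨fun x y => Subtype.ext (by
    obtain ⟨s, hs⟩ := mem_upper.1 x.2
    obtain ⟨t, ht⟩ := mem_upper.1 y.2
    simp [hs, ht, up_mul, add_comm])⟩⟩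
  refine ⟨?_, ⟨⟨1, ?_⟩⟩, ⟨⟨1, ?_⟩⟩, ?_, ?_⟩
  · intro he
    have : low (1 : k) ∈ upperUnipotentSL2 k := he ▸ mem_lower.2 ⟨1, rfl⟩
    obtain ⟨s, hs⟩ := mem_upper.1 this
    have := congrArg (fun m : Matrix.SpecialLinearGroup (Fin 2) k => (m.1 1 0)) hs
    simp at this
  · rw [Subgroup.upperCentralSeries_one, eq_top_iff]
    exact fun x _ => Subgroup.mem_center_iff.2 fun y => mul_comm' y x
  · rw [Subgroup.upperCentralSeries_one, eq_top_iff]
    exact fun x _ => Subgroup.mem_center_iff.2 fun y => mul_comm' y x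
  · rintro a ha ha1
    obtain ⟨t, rfl⟩ := mem_lower.1 ha
    have ht : t ≠ 0 := fun h0 => ha1 (h0 ▸ low_zero)
    refine ⟨up t⁻¹, mem_upper.2 ⟨_, rfl⟩, fun h0 => ?_, conjBy_eq t ht⟩
    have := congrArg (fun m : Matrix.SpecialLinearGroup (Fin 2) k => (m.1 0 1)) h0
    simp [ht] at this
  · rintro b hb hb1
    obtain ⟨s, rfl⟩ := mem_upper.1 hb
    have hs : s ≠ 0 := fun h0 => hb1 (h0 ▸ up_zero)
    refine ⟨low s⁻¹, mem_lower.2 ⟨_, rfl⟩, fun h0 => ?_, ?_⟩
    · have := congrArg (fun m : Matrix.SpecialLinearGroup (Fin 2) k => (m.1 1 0)) h0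
      simp [hs] at this
    · have := conjBy_eq s⁻¹ (inv_ne_zero hs)
      rw [inv_inv] at this
      exact this.symm

theorem sup_eq_top : lowerUnipotentSL2 k ⊔ upperUnipotentSL2 k = ⊤ := by
  rw [eq_top_iff]
  intro g _
  have key : ∀ g : Matrix.SpecialLinearGroup (Fin 2) k, g.1 1 0 ≠ 0 →
      g ∈ lowerUnipotentSL2 k ⊔ upperUnipotentSL2 k := by
    intro g hr
    have hdet := g.2
    rw [Matrix.det_fin_two] at hdet
    have : g = up ((g.1 0 0 - 1) / g.1 1 0) * low (g.1 1 0) * up ((g.1 1 1 - 1) / g.1 1 0) := by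
      apply Subtype.ext
      simp only [Matrix.SpecialLinearGroup.coe_mul, coe_up, coe_low, Matrix.mul_fin_two]
      ext i j
      fin_cases i <;> fin_cases j <;> simp <;> field_simp <;> (first | ring1 | linear_combination -hdet | linear_combination hdet)
    rw [this]
    exact mul_mem (mul_mem (Subgroup.mem_sup_right (mem_upper.2 ⟨_, rfl⟩))
      (Subgroup.mem_sup_left (mem_lower.2 ⟨_, rfl⟩))) (Subgroup.mem_sup_right (mem_upper.2 ⟨_, rfl⟩))
  by_cases hr : g.1 1 0 = 0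
  · have hdet := g.2
    rw [Matrix.det_fin_two, hr, mul_zero, sub_zero] at hdet
    have h := key (low 1 * g) (by
      simp [Matrix.mul_apply, Fin.sum_univ_two, hr, left_ne_zero_of_mul_eq_one hdet])
    have h1 : low (1 : k) ∈ lowerUnipotentSL2 k ⊔ upperUnipotentSL2 k :=
      Subgroup.mem_sup_left (mem_lower.2 ⟨1, rfl⟩)
    simpa using mul_mem (inv_mem h1) h
  · exact key g hr

theorem isSpecial : IsSpecialRankOnePair (lowerUnipotentSL2 k) (upperUnipotentSL2 k) := by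
  refine ⟨isRankOnePair, fun a ha ha1 b hb hb1 hab => ?_⟩
  obtain ⟨t, rfl⟩ := mem_lower.1 ha
  have ht : t ≠ 0 := fun h0 => ha1 (h0 ▸ low_zero)
  obtain ⟨b0, -, huniq⟩ := RankOne.partner_unique isRankOnePair ha ha1
  have hu1 : up (t⁻¹) ≠ (1 : Matrix.SpecialLinearGroup (Fin 2) k) := by
    intro h0
    have := congrArg (fun m : Matrix.SpecialLinearGroup (Fin 2) k => (m.1 0 1)) h0
    simp [ht] at this
  rw [(huniq b ⟨hb, hb1, hab⟩).trans
    (huniq (up t⁻¹) ⟨mem_upper.2 ⟨_, rfl⟩, hu1, conjBy_eq t ht⟩).symm, up_inv, low_inv]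
  rw [conj_identity t t ht]
  have : t⁻¹ * t⁻¹ * t = t⁻¹ := by field_simp
  rw [this]

end CfsgLib.RootSubgroups.SLTwo
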