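import Cfsg.Agent.RootSubgroups.TransvectionClass
import Cfsg.Agent.RootSubgroups.Commutator
import Cfsg.Agent.Classical.Linear.Transvection

/-!
# Transvection subgroups of `SL(ι, F)`: the three kinds of pairs
-/

set_option autoImplicit false

namespace CfsgLib.RootSubgroups.SLTransv

open Cfsg Matrix CfsgLib.Classical.Linear

variable {ι : Type} {F : Type*} [Fintype ι] [DecidableEq ι] [Field F]

theorem det_one_add_vecMulVec_eq (v φ : ι → F) : (1 + Matrix.vecMulVec v φ).det = 1 + φ ⬝ᵥ v := by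
  rw [Matrix.vecMulVec_eq Unit, Matrix.det_one_add_replicateCol_mul_replicateRow]

/-- The transvection `1 + v φᵀ` (junk value `1` when `φ v ≠ 0`). -/
noncomputable def tv (v φ : ι → F) : Matrix.SpecialLinearGroup ι F :=
  haveI := _root_.Classical.propDecidable (φ ⬝ᵥ v = 0)
  if h : φ ⬝ᵥ v = 0 then
    (⟨1 + Matrix.vecMulVec v φ, by rw [det_one_add_vecMulVec_eq, h, add_zero]⟩ : Matrix.SpecialLinearGroup ι F)
  else 1

theorem coe_tv {v φ : ι → F} (h : φ ⬝ᵥ v = 0) :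
    (tv v φ : Matrix ι ι F) = 1 + Matrix.vecMulVec v φ := by
  unfold tv
  exact congrArg Subtype.val (dif_pos h)

theorem tv_zero (v : ι → F) : tv v 0 = 1 :=
  Subtype.ext (by rw [coe_tv (zero_dotProduct v)]; simp)

theorem tv_mul {v φ ψ : ι → F} (hφ : φ ⬝ᵥ v = 0) (hψ : ψ ⬝ᵥ v = 0) :
    tv v φ * tv v ψ = tv v (φ + ψ) := by
  refine Subtype.ext ?_
  rw [Matrix.SpecialLinearGroup.coe_mul, coe_tv hφ, coe_tv hψ,
    coe_tv (by rw [add_dotProduct, hφ, hψ, add_zero]), Matrix.add_mul, Matrix.one_mul, Matrix.mul_add,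
    Matrix.mul_one, Matrix.vecMulVec_mul_vecMulVec, hφ, Matrix.vecMulVec_add]
  simp [add_assoc, add_left_comm, add_comm]

theorem tv_inv {v φ : ι → F} (hφ : φ ⬝ᵥ v = 0) : (tv v φ)⁻¹ = tv v (-φ) := by
  refine inv_eq_of_mul_eq_one_right ?_
  rw [tv_mul hφ (by rw [neg_dotProduct, hφ, neg_zero]), add_neg_cancel, tv_zero]

theorem smul_dot {v φ : ι → F} (h : φ ⬝ᵥ v = 0) (c : F) : (c • φ) ⬝ᵥ v = 0 := by
  rw [smul_dotProduct, h, smul_zero]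

theorem tv_ne_one {v φ : ι → F} (hv : v ≠ 0) (hφ : φ ≠ 0) (h : φ ⬝ᵥ v = 0) : tv v φ ≠ 1 := by
  intro h1
  obtain ⟨i, hi⟩ := Function.ne_iff.1 hv
  obtain ⟨j, hj⟩ := Function.ne_iff.1 hφ
  have h2 := congrArg (fun g : Matrix.SpecialLinearGroup ι F => (g : Matrix ι ι F) i j) h1
  simp only [coe_tv h, Matrix.SpecialLinearGroup.coe_one, Matrix.add_apply, add_eq_left,
    Matrix.vecMulVec_apply, mul_eq_zero] at h2
  exact h2.elim hi hj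

theorem isTransvection_tv {v φ : ι → F} (hv : v ≠ 0) (hφ : φ ≠ 0) (h : φ ⬝ᵥ v = 0) :
    Cfsg.IsTransvection (tv v φ : Matrix ι ι F) :=
  isTransvection_iff.2 ⟨v, φ, hv, hφ, h, coe_tv h⟩

theorem exists_tv {t : Matrix.SpecialLinearGroup ι F} (ht : Cfsg.IsTransvection (t : Matrix ι ι F)) :
    ∃ v φ, v ≠ 0 ∧ φ ≠ 0 ∧ φ ⬝ᵥ v = 0 ∧ t = tv v φ := by
  obtain ⟨v, φ, hv, hφ, h, htv⟩ := isTransvection_iff.1 ht
  exact ⟨v, φ, hv, hφ, h, Subtype.ext (by rw [coe_tv h, htv])⟩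

theorem transvection_eq_tv {i j : ι} (hij : i ≠ j) (c : F) :
    Matrix.SpecialLinearGroup.transvection hij c = tv (Pi.single i 1) (Pi.single j c) :=
  Subtype.ext (by rw [coe_tv (by simp [hij.symm]), one_add_vecMulVec_single hij])

theorem dot_conj {v φ : ι → F} (g : Matrix.SpecialLinearGroup ι F) :
    (φ ᵥ* ((g⁻¹ : Matrix.SpecialLinearGroup ι F) : Matrix ι ι F)) ⬝ᵥ ((g : Matrix ι ι F) *ᵥ v) = φ ⬝ᵥ v := by
  rw [← Matrix.dotProduct_mulVec, Matrix.mulVec_mulVec, ← Matrix.SpecialLinearGroup.coe_mul, inv_mul_cancel,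
    Matrix.SpecialLinearGroup.coe_one, Matrix.one_mulVec]

theorem conj_tv {v φ : ι → F} (h : φ ⬝ᵥ v = 0) (g : Matrix.SpecialLinearGroup ι F) :
    g * tv v φ * g⁻¹ = tv ((g : Matrix ι ι F) *ᵥ v) (φ ᵥ* ((g⁻¹ : Matrix.SpecialLinearGroup ι F) : Matrix ι ι F)) := by
  refine Subtype.ext ?_
  rw [Matrix.SpecialLinearGroup.coe_mul, Matrix.SpecialLinearGroup.coe_mul, coe_tv h,
    coe_tv (by rw [dot_conj, h]), sl_mul_one_add_vecMulVec_mul_inv]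

theorem tv_comm {v₁ φ₁ v₂ φ₂ : ι → F} (h₁ : φ₁ ⬝ᵥ v₁ = 0) (h₂ : φ₂ ⬝ᵥ v₂ = 0) (hα : φ₁ ⬝ᵥ v₂ = 0)
    (hβ : φ₂ ⬝ᵥ v₁ = 0) : tv v₁ φ₁ * tv v₂ φ₂ = tv v₂ φ₂ * tv v₁ φ₁ := by
  refine Subtype.ext ?_
  simp only [Matrix.SpecialLinearGroup.coe_mul, coe_tv h₁, coe_tv h₂, Matrix.add_mul, Matrix.mul_add,
    Matrix.one_mul, Matrix.mul_one, Matrix.vecMulVec_mul_vecMulVec, hα, hβ, zero_smul, Matrix.vecMulVec_zero]
  abel

/-- The commutator of two transvections, one centre lying in the other axis. -/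
theorem tv_commutator {v₁ φ₁ v₂ φ₂ : ι → F} (h₁ : φ₁ ⬝ᵥ v₁ = 0) (h₂ : φ₂ ⬝ᵥ v₂ = 0) (hβ : φ₂ ⬝ᵥ v₁ = 0) :
    tv v₁ φ₁ * tv v₂ φ₂ * (tv v₁ φ₁)⁻¹ * (tv v₂ φ₂)⁻¹ = tv v₁ ((φ₁ ⬝ᵥ v₂) • φ₂) := by
  rw [mul_inv_eq_iff_eq_mul, mul_inv_eq_iff_eq_mul]
  refine Subtype.ext ?_
  simp only [Matrix.SpecialLinearGroup.coe_mul, coe_tv h₁, coe_tv h₂, coe_tv (smul_dot hβ _), Matrix.add_mul,
    Matrix.mul_add, Matrix.one_mul, Matrix.mul_one, Matrix.vecMulVec_mul_vecMulVec, hβ, h₁, h₂, smul_dotProduct,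
    smul_eq_mul, mul_zero, zero_mul, zero_smul, Matrix.vecMulVec_zero, add_zero]
  abel

/-- `c ↦ 1 + c v φᵀ` as a homomorphism. -/
noncomputable def tvHom {v φ : ι → F} (h : φ ⬝ᵥ v = 0) : Multiplicative F →* Matrix.SpecialLinearGroup ι F where
  toFun c := tv v (c.toAdd • φ)
  map_one' := by simp [tv_zero]
  map_mul' a b := by rw [tv_mul (smul_dot h _) (smul_dot h _), ← add_smul]; rfl

/-- The group of transvections `1 + c v φᵀ`. -/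
noncomputable def tsub (v φ : ι → F) : Subgroup (Matrix.SpecialLinearGroup ι F) :=
  haveI := _root_.Classical.propDecidable (φ ⬝ᵥ v = 0)
  if h : φ ⬝ᵥ v = 0 then (tvHom h).range else ⊥

theorem mem_tsub {v φ : ι → F} (h : φ ⬝ᵥ v = 0) {g : Matrix.SpecialLinearGroup ι F} :
    g ∈ tsub v φ ↔ ∃ c : F, tv v (c • φ) = g := by
  rw [tsub, dif_pos h]
  exact ⟨fun ⟨c, hc⟩ => ⟨c.toAdd, hc⟩, fun ⟨c, hc⟩ => ⟨Multiplicative.ofAdd c, hc⟩⟩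

theorem tv_mem_tsub {v φ : ι → F} (h : φ ⬝ᵥ v = 0) (c : F) : tv v (c • φ) ∈ tsub v φ :=
  (mem_tsub h).2 ⟨c, rfl⟩

theorem tsub_eq_of_vecMulVec_eq {v φ v' φ' : ι → F} (h : φ ⬝ᵥ v = 0) (h' : φ' ⬝ᵥ v' = 0)
    (he : Matrix.vecMulVec v φ = Matrix.vecMulVec v' φ') : tsub v φ = tsub v' φ' := by
  have key : ∀ c : F, tv v (c • φ) = tv v' (c • φ') := fun c => Subtype.ext (by
    rw [coe_tv (smul_dot h c), coe_tv (smul_dot h' c), Matrix.vecMulVec_smul, Matrix.vecMulVec_smul, he])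
  ext g
  rw [mem_tsub h, mem_tsub h']
  simp only [key]

theorem conjBy_tsub {v φ : ι → F} (h : φ ⬝ᵥ v = 0) (g : Matrix.SpecialLinearGroup ι F) :
    conjBy (tsub v φ) g =
      tsub ((g : Matrix ι ι F) *ᵥ v) (φ ᵥ* ((g⁻¹ : Matrix.SpecialLinearGroup ι F) : Matrix ι ι F)) := by
  have key : ∀ c : F, g * tv v (c • φ) * g⁻¹ =
      tv ((g : Matrix ι ι F) *ᵥ v) (c • φ ᵥ* ((g⁻¹ : Matrix.SpecialLinearGroup ι F) : Matrix ι ι F)) := fun c => by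
    rw [conj_tv (smul_dot h c), Matrix.smul_vecMul]
  ext x
  rw [mem_tsub (by rw [dot_conj, h]), Subgroup.mem_map]
  constructor
  · rintro ⟨y, hy, rfl⟩
    obtain ⟨c, rfl⟩ := (mem_tsub h).1 hy
    exact ⟨c, (key c).symm⟩
  · rintro ⟨c, rfl⟩
    exact ⟨_, tv_mem_tsub h c, key c⟩

theorem commutative_tsub {v φ : ι → F} (h : φ ⬝ᵥ v = 0) : IsMulCommutative (tsub v φ) := by
  refine ⟨⟨fun x y => Subtype.ext ?_⟩⟩
  obtain ⟨a, ha⟩ := (mem_tsub h).1 x.2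
  obtain ⟨b, hb⟩ := (mem_tsub h).1 y.2
  show (x : Matrix.SpecialLinearGroup ι F) * y = y * x
  rw [← ha, ← hb, tv_mul (smul_dot h _) (smul_dot h _), tv_mul (smul_dot h _) (smul_dot h _), add_comm]

theorem tsub_ne_bot {v φ : ι → F} (hv : v ≠ 0) (hφ : φ ≠ 0) (h : φ ⬝ᵥ v = 0) : tsub v φ ≠ ⊥ := by
  intro h0
  have h1 := tv_mem_tsub h (1 : F)
  rw [h0, Subgroup.mem_bot, one_smul] at h1
  exact tv_ne_one hv hφ h h1

variable (ι F) in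
/-- All transvection subgroups of `SL(ι, F)`. -/
def transvectionSubgroups : Set (Subgroup (Matrix.SpecialLinearGroup ι F)) :=
  {A | ∃ v φ : ι → F, v ≠ 0 ∧ φ ≠ 0 ∧ φ ⬝ᵥ v = 0 ∧ A = tsub v φ}

theorem pair_commute {v₁ φ₁ v₂ φ₂ : ι → F} (h₁ : φ₁ ⬝ᵥ v₁ = 0) (h₂ : φ₂ ⬝ᵥ v₂ = 0) (hα : φ₁ ⬝ᵥ v₂ = 0)
    (hβ : φ₂ ⬝ᵥ v₁ = 0) : ⁅tsub v₁ φ₁, tsub v₂ φ₂⁆ = ⊥ := by
  refine commutator_eq_bot_iff_commutes.2 fun x hx y hy => ?_
  obtain ⟨a, rfl⟩ := (mem_tsub h₁).1 hx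
  obtain ⟨b, rfl⟩ := (mem_tsub h₂).1 hy
  exact tv_comm (smul_dot h₁ a) (smul_dot h₂ b) (smul_dot hα a) (smul_dot hβ b)

theorem exists_sl2_hom {v₁ φ₁ v₂ φ₂ : ι → F} (h₁ : φ₁ ⬝ᵥ v₁ = 0) (h₂ : φ₂ ⬝ᵥ v₂ = 0) (hα : φ₁ ⬝ᵥ v₂ ≠ 0)
    (hβ : φ₂ ⬝ᵥ v₁ ≠ 0) :
    ∃ Φ : Matrix.SpecialLinearGroup (Fin 2) F →* Matrix.SpecialLinearGroup ι F, Function.Injective Φ ∧
      (∀ s, Φ (SLTwo.up s) = tv v₁ ((s / (φ₁ ⬝ᵥ v₂)) • φ₁)) ∧
      (∀ t, Φ (SLTwo.low t) = tv v₂ ((t / (φ₂ ⬝ᵥ v₁)) • φ₂)) := by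
  let Ψ := planeHom (e := v₁) (f := v₂) (a := (φ₂ ⬝ᵥ v₁)⁻¹ • φ₂) (b := (φ₁ ⬝ᵥ v₂)⁻¹ • φ₁) (RingHom.id F)
    (by rw [smul_dotProduct, smul_eq_mul, inv_mul_cancel₀ hβ]) (smul_dot h₂ _) (smul_dot h₁ _)
    (by rw [smul_dotProduct, smul_eq_mul, inv_mul_cancel₀ hα]) (one_ne_zero (α := F))
  have hup : ∀ s, Ψ (SLTwo.up s) = (tv v₁ ((s / (φ₁ ⬝ᵥ v₂)) • φ₁) : Matrix ι ι F) := fun s => by
    rw [coe_tv (smul_dot h₁ _)]
    simp [Ψ, planeHom, planeMat, SLTwo.up, smul_smul, div_eq_mul_inv]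
  have hlow : ∀ t, Ψ (SLTwo.low t) = (tv v₂ ((t / (φ₂ ⬝ᵥ v₁)) • φ₂) : Matrix ι ι F) := fun t => by
    rw [coe_tv (smul_dot h₂ _)]
    simp [Ψ, planeHom, planeMat, SLTwo.low, smul_smul, div_eq_mul_inv]
  have hdet : ∀ M, (Ψ M).det = 1 := slTwo_induction
    (fun s => by rw [hup]; exact Matrix.SpecialLinearGroup.det_coe _)
    (fun t => by rw [hlow]; exact Matrix.SpecialLinearGroup.det_coe _)
    (fun x y hx hy => by rw [map_mul, Matrix.det_mul, hx, hy, mul_one])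
  refine ⟨MonoidHom.mk' (fun M => (⟨Ψ M, hdet M⟩ : Matrix.SpecialLinearGroup ι F))
      fun x y => Subtype.ext (map_mul Ψ x y),
    fun x y hxy => planeHom_injective (RingHom.id F) _ _ _ _ _ (congrArg Subtype.val hxy),
    fun s => Subtype.ext (hup s), fun t => Subtype.ext (hlow t)⟩

theorem pair_psl2 {v₁ φ₁ v₂ φ₂ : ι → F} (h₁ : φ₁ ⬝ᵥ v₁ = 0) (h₂ : φ₂ ⬝ᵥ v₂ = 0) (hα : φ₁ ⬝ᵥ v₂ ≠ 0)
    (hβ : φ₂ ⬝ᵥ v₁ ≠ 0) : IsPSL2PairOver F (tsub v₁ φ₁) (tsub v₂ φ₂) := by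
  obtain ⟨Φ, hinj, hup, hlow⟩ := exists_sl2_hom h₁ h₂ hα hβ
  refine psl2Pair_of_hom Φ hinj (fun g => ?_) fun g => ?_
  · rw [mem_tsub h₁]
    exact ⟨fun ⟨c, hc⟩ => ⟨c * (φ₁ ⬝ᵥ v₂), by rw [hup, mul_div_cancel_right₀ _ hα, hc]⟩,
      fun ⟨s, hs⟩ => ⟨s / (φ₁ ⬝ᵥ v₂), by rw [← hs, hup]⟩⟩
  · rw [mem_tsub h₂]
    exact ⟨fun ⟨c, hc⟩ => ⟨c * (φ₂ ⬝ᵥ v₁), by rw [hlow, mul_div_cancel_right₀ _ hβ, hc]⟩,
      fun ⟨s, hs⟩ => ⟨s / (φ₂ ⬝ᵥ v₁), by rw [← hs, hlow]⟩⟩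

theorem pair_commCase {v₁ φ₁ v₂ φ₂ : ι → F} (h₁ : φ₁ ⬝ᵥ v₁ = 0) (h₂ : φ₂ ⬝ᵥ v₂ = 0) (hv₁ : v₁ ≠ 0) (hφ₂ : φ₂ ≠ 0)
    (hα : φ₁ ⬝ᵥ v₂ ≠ 0) (hβ : φ₂ ⬝ᵥ v₁ = 0) :
    RootCommutatorCase (transvectionSubgroups ι F) (tsub v₁ φ₁) (tsub v₂ φ₂) := by
  have hc : ∀ a b : F, tv v₁ (a • φ₁) * tv v₂ (b • φ₂) * (tv v₁ (a • φ₁))⁻¹ * (tv v₂ (b • φ₂))⁻¹ =
      tv v₁ ((a * b * (φ₁ ⬝ᵥ v₂)) • φ₂) := fun a b => by
    rw [tv_commutator (smul_dot h₁ a) (smul_dot h₂ b) (smul_dot hβ b), smul_dotProduct, smul_smul, smul_eq_mul]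
    ring_nf
  have heq : ⁅tsub v₁ φ₁, tsub v₂ φ₂⁆ = tsub v₁ φ₂ := by
    refine le_antisymm (Subgroup.commutator_le.2 fun x hx y hy => ?_) fun g hg => ?_
    · obtain ⟨a, rfl⟩ := (mem_tsub h₁).1 hx
      obtain ⟨b, rfl⟩ := (mem_tsub h₂).1 hy
      rw [commutatorElement_def, hc]
      exact tv_mem_tsub hβ _
    · obtain ⟨c, rfl⟩ := (mem_tsub hβ).1 hg
      have h9 := Subgroup.commutator_mem_commutator (tv_mem_tsub h₁ (1 : F)) (tv_mem_tsub h₂ (c / (φ₁ ⬝ᵥ v₂)))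
      rwa [commutatorElement_def, hc, one_mul, div_mul_cancel₀ _ hα] at h9
  refine ⟨⟨v₁, φ₂, hv₁, hφ₂, hβ, heq⟩, fun c hc' x hx => ?_, fun a ha ha1 => ?_, fun b hb hb1 => ?_⟩
  · rw [heq] at hc'
    obtain ⟨d, rfl⟩ := (mem_tsub hβ).1 hc'
    refine (Subgroup.mem_centralizer_singleton_iff.1
      ((sup_le (fun y hy => ?_) fun y hy => ?_ : tsub v₁ φ₁ ⊔ tsub v₂ φ₂ ≤
        Subgroup.centralizer {tv v₁ (d • φ₂)}) hx)).symm
    · obtain ⟨a, rfl⟩ := (mem_tsub h₁).1 hy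
      exact Subgroup.mem_centralizer_singleton_iff.2
        (tv_comm (smul_dot h₁ a) (smul_dot hβ d) (smul_dot h₁ a) (smul_dot hβ d))
    · obtain ⟨b, rfl⟩ := (mem_tsub h₂).1 hy
      exact Subgroup.mem_centralizer_singleton_iff.2
        (tv_comm (smul_dot h₂ b) (smul_dot hβ d) (smul_dot hβ b) (smul_dot h₂ d))
  · rw [heq]
    obtain ⟨a, rfl⟩ := (mem_tsub h₁).1 ha
    have ha0 : a ≠ 0 := fun h => ha1 (by rw [h, zero_smul, tv_zero])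
    refine le_antisymm ((Subgroup.closure_le _).2 ?_) fun g hg => ?_
    · rintro _ ⟨y, hy, rfl⟩
      obtain ⟨b, rfl⟩ := (mem_tsub h₂).1 hy
      simp only [SetLike.mem_coe]
      rw [hc]
      exact tv_mem_tsub hβ _
    · obtain ⟨c, rfl⟩ := (mem_tsub hβ).1 hg
      refine Subgroup.subset_closure ⟨_, tv_mem_tsub h₂ (c / (a * (φ₁ ⬝ᵥ v₂))), ?_⟩
      simp only
      rw [hc]
      congr 2
      field_simp
  · rw [heq]
    obtain ⟨b, rfl⟩ := (mem_tsub h₂).1 hb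
    have hb0 : b ≠ 0 := fun h => hb1 (by rw [h, zero_smul, tv_zero])
    refine le_antisymm ((Subgroup.closure_le _).2 ?_) fun g hg => ?_
    · rintro _ ⟨y, hy, rfl⟩
      obtain ⟨a, rfl⟩ := (mem_tsub h₁).1 hy
      simp only [SetLike.mem_coe]
      rw [hc]
      exact tv_mem_tsub hβ _
    · obtain ⟨c, rfl⟩ := (mem_tsub hβ).1 hg
      refine Subgroup.subset_closure ⟨_, tv_mem_tsub h₁ (c / (b * (φ₁ ⬝ᵥ v₂))), ?_⟩
      simp only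
      rw [hc]
      congr 2
      field_simp

theorem pair_cases {A B : Subgroup (Matrix.SpecialLinearGroup ι F)} (hA : A ∈ transvectionSubgroups ι F)
    (hB : B ∈ transvectionSubgroups ι F) :
    ⁅A, B⁆ = ⊥ ∨ IsPSL2PairOver F A B ∨ RootCommutatorCase (transvectionSubgroups ι F) A B := by
  obtain ⟨v₁, φ₁, hv₁, hφ₁, h₁, rfl⟩ := hA
  obtain ⟨v₂, φ₂, hv₂, hφ₂, h₂, rfl⟩ := hB
  by_cases hα : φ₁ ⬝ᵥ v₂ = 0 <;> by_cases hβ : φ₂ ⬝ᵥ v₁ = 0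
  · exact Or.inl (pair_commute h₁ h₂ hα hβ)
  · exact Or.inr (Or.inr (CommCase.symm (pair_commCase h₂ h₁ hv₂ hφ₁ hβ hα)))
  · exact Or.inr (Or.inr (pair_commCase h₁ h₂ hv₁ hφ₂ hα hβ))
  · exact Or.inr (Or.inl (pair_psl2 h₁ h₂ hα hβ))

theorem base_mem {i j : ι} (hij : i ≠ j) :
    tsub (Pi.single i (1 : F)) (Pi.single j 1) ∈ transvectionSubgroups ι F :=
  ⟨_, _, by simp, by simp, by simp [hij.symm], rfl⟩

theorem exists_conjBy_base (h3 : 3 ≤ Fintype.card ι) {i j : ι} (hij : i ≠ j)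
    {A : Subgroup (Matrix.SpecialLinearGroup ι F)} (hA : A ∈ transvectionSubgroups ι F) :
    ∃ g, conjBy A g = tsub (Pi.single i (1 : F)) (Pi.single j 1) := by
  obtain ⟨v, φ, hv, hφ, h, rfl⟩ := hA
  obtain ⟨g, hg⟩ := isConj_iff.1 (isConj_transvection_of_three_le h3 hij one_ne_zero (isTransvection_tv hv hφ h))
  rw [conj_tv h, transvection_eq_tv] at hg
  refine ⟨g, (conjBy_tsub h g).trans (tsub_eq_of_vecMulVec_eq (by rw [dot_conj, h]) (by simp [hij.symm]) ?_)⟩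
  have h9 := congrArg (fun t : Matrix.SpecialLinearGroup ι F => (t : Matrix ι ι F)) hg
  simp only [coe_tv ((dot_conj (v := v) (φ := φ) g).trans h),
    coe_tv (show (Pi.single j (1 : F) : ι → F) ⬝ᵥ Pi.single i 1 = 0 by simp [hij.symm])] at h9
  exact add_left_cancel h9

theorem closure_base {i j : ι} (hij : i ≠ j) :
    Subgroup.closure {t : Matrix.SpecialLinearGroup ι F |
      ∃ c : F, (t : Matrix ι ι F) = Matrix.transvection i j c} = tsub (Pi.single i (1 : F)) (Pi.single j 1) := by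
  have h0 : (Pi.single j (1 : F) : ι → F) ⬝ᵥ Pi.single i 1 = 0 := by simp [hij.symm]
  have key : ∀ c : F, (tv (Pi.single i (1 : F)) (c • Pi.single j 1) : Matrix ι ι F) = Matrix.transvection i j c := by
    intro c
    rw [← Pi.single_smul, smul_eq_mul, mul_one, ← transvection_eq_tv hij]
    simp [Matrix.SpecialLinearGroup.transvection_coe, Matrix.transvection]
  conv_rhs => rw [← Subgroup.closure_eq (tsub (Pi.single i (1 : F)) (Pi.single j 1))]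
  congr 1
  ext t
  rw [SetLike.mem_coe, mem_tsub h0]
  exact ⟨fun ⟨c, hc⟩ => ⟨c, Subtype.ext (by rw [key, hc])⟩, fun ⟨c, hc⟩ => ⟨c, by rw [← hc, key]⟩⟩

theorem exists_generic_vector {φ₁ φ₂ : ι → F} (h₁ : φ₁ ≠ 0) (h₂ : φ₂ ≠ 0) :
    ∃ v, φ₁ ⬝ᵥ v ≠ 0 ∧ φ₂ ⬝ᵥ v ≠ 0 := by
  obtain ⟨i, hi⟩ := Function.ne_iff.1 h₁
  obtain ⟨j, hj⟩ := Function.ne_iff.1 h₂
  by_cases h : φ₂ i = 0
  · by_cases h' : φ₁ j = 0
    · exact ⟨Pi.single i 1 + Pi.single j 1, by simpa [dotProduct_add, h'] using hi,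
        by simpa [dotProduct_add, h] using hj⟩
    · exact ⟨Pi.single j 1, by simpa using h', by simpa using hj⟩
  · exact ⟨Pi.single i 1, by simpa using hi, by simpa using h⟩

theorem connected : IsConnectedFamily (FAdj (transvectionSubgroups ι F)) (transvectionSubgroups ι F) := by
  intro A hA B hB
  have hA' := hA
  have hB' := hB
  obtain ⟨v₁, φ₁, hv₁, hφ₁, h₁, rfl⟩ := hA'
  obtain ⟨v₂, φ₂, hv₂, hφ₂, h₂, rfl⟩ := hB'
  obtain ⟨v, hv1, hv2⟩ := exists_generic_vector hφ₁ hφ₂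
  have key : ∀ {w ψ : ι → F}, w ≠ 0 → ψ ⬝ᵥ w = 0 → ψ ⬝ᵥ v ≠ 0 → ∃ χ : ι → F, χ ⬝ᵥ v = 0 ∧ χ ⬝ᵥ w ≠ 0 := by
    intro w ψ hw hψw hψv
    obtain ⟨i, hi⟩ := Function.ne_iff.1 hw
    refine ⟨Pi.single i 1 - ((Pi.single i 1 ⬝ᵥ v) / (ψ ⬝ᵥ v)) • ψ, ?_, ?_⟩
    · rw [sub_dotProduct, smul_dotProduct, smul_eq_mul, div_mul_cancel₀ _ hψv, sub_self]
    · rw [sub_dotProduct, smul_dotProduct, hψw, smul_zero, sub_zero]
      simpa using hi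
  obtain ⟨χ₁, hχ₁v, hχ₁w⟩ := key hv₁ h₁ hv1
  obtain ⟨χ₂, hχ₂v, hχ₂w⟩ := key hv₂ h₂ hv2
  obtain ⟨χ, hχv, hχ1, hχ2⟩ : ∃ χ : ι → F, χ ⬝ᵥ v = 0 ∧ χ ⬝ᵥ v₁ ≠ 0 ∧ χ ⬝ᵥ v₂ ≠ 0 := by
    by_cases h : χ₁ ⬝ᵥ v₂ = 0
    · by_cases h' : χ₂ ⬝ᵥ v₁ = 0
      · exact ⟨χ₁ + χ₂, by rw [add_dotProduct, hχ₁v, hχ₂v, add_zero], by rwa [add_dotProduct, h', add_zero],
          by rwa [add_dotProduct, h, zero_add]⟩
      · exact ⟨χ₂, hχ₂v, h', hχ₂w⟩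
    · exact ⟨χ₁, hχ₁v, hχ₁w, h⟩
  have hv : v ≠ 0 := fun h => hv1 (by rw [h, dotProduct_zero])
  have hχ : χ ≠ 0 := fun h => hχ1 (by rw [h, zero_dotProduct])
  have hC : tsub v χ ∈ transvectionSubgroups ι F := ⟨v, χ, hv, hχ, hχv, rfl⟩
  exact (Relation.ReflTransGen.single (r := FAdj (transvectionSubgroups ι F)) (b := tsub v χ)
    ⟨hA, hC, isRankOnePair_of_psl2Pair (pair_psl2 h₁ hχv hv1 hχ1)⟩).tail
    ⟨hC, hB, isRankOnePair_of_psl2Pair (pair_psl2 hχv h₂ hχ2 hv2)⟩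

theorem rootSubgroupClass (h3 : 3 ≤ Fintype.card ι) :
    IsRootSubgroupClass (transvectionSubgroups ι F) ∧ IsNondegenerateRootSet (transvectionSubgroups ι F) ∧
      IsKRootSubgroupSet F (transvectionSubgroups ι F) := by
  have : Nontrivial ι := Fintype.one_lt_card_iff_nontrivial.1 (by omega)
  obtain ⟨i, j, hij⟩ := exists_pair_ne ι
  obtain ⟨l, hli, hlj⟩ := exists_third h3 i j
  have hset : IsRootSubgroupSet (transvectionSubgroups ι F) := by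
    refine ⟨?_, ?_, ?_, ?_, fun A hA B hB => (pair_cases hA hB).imp id (Or.imp isRankOnePair_of_psl2Pair id)⟩
    · rintro A ⟨v, φ, -, -, h, rfl⟩
      exact commutative_tsub h
    · rintro A ⟨v, φ, hv, hφ, h, rfl⟩
      exact tsub_ne_bot hv hφ h
    · refine top_unique ?_
      rw [← closure_elementarySet (ι := ι) (F := F), Subgroup.closure_le]
      rintro _ ⟨a, b, hab, c, rfl⟩
      refine SetLike.le_def.1 (le_biSup (fun A : Subgroup (Matrix.SpecialLinearGroup ι F) => A) (base_mem hab)) ?_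
      rw [transvection_eq_tv, ← mul_one c, ← smul_eq_mul, Pi.single_smul]
      exact tv_mem_tsub (by simp [hab.symm]) c
    · rintro A ⟨v, φ, hv, hφ, h, rfl⟩ g
      refine ⟨_, _, ?_, ne_zero_vecMul _ hφ, by rw [dot_conj, h], conjBy_tsub h g⟩
      intro hgv
      apply hv
      have h9 := congrArg (fun x => ((g⁻¹ : Matrix.SpecialLinearGroup ι F) : Matrix ι ι F) *ᵥ x) hgv
      simpa only [Matrix.mulVec_mulVec, ← Matrix.SpecialLinearGroup.coe_mul, inv_mul_cancel, Matrix.SpecialLinearGroup.coe_one, Matrix.one_mulVec, Matrix.mulVec_zero] using h9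
  refine ⟨⟨hset, ⟨_, base_mem hij⟩, fun A hA B hB => ?_⟩, ⟨?_, ?_, ?_⟩, hset, fun A hA B hB h => ?_⟩
  · obtain ⟨g₁, hg₁⟩ := exists_conjBy_base h3 hij hA
    obtain ⟨g₂, hg₂⟩ := exists_conjBy_base h3 hij hB
    exact ⟨g₂⁻¹ * g₁, by rw [← conjBy_conjBy, hg₁, ← hg₂, conjBy_conjBy, inv_mul_cancel, conjBy_one]⟩
  · refine ⟨_, base_mem hij, _, base_mem hli.symm, fun he => ?_,
      pair_commute (by simp [hij.symm]) (by simp [hli]) (by simp [hij.symm]) (by simp [hli])⟩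
    have h9 : tv (Pi.single i (1 : F)) ((1 : F) • Pi.single j 1) ∈ tsub (Pi.single i (1 : F)) (Pi.single l 1) :=
      he ▸ tv_mem_tsub (by simp [hij.symm]) 1
    obtain ⟨c, hc⟩ := (mem_tsub (by simp [hli])).1 h9
    have h10 := congrArg (fun t : Matrix.SpecialLinearGroup ι F => (t : Matrix ι ι F) i j) hc
    simp [coe_tv, hij, hij.symm, hli, hlj.symm, Matrix.vecMulVec_apply] at h10
  · exact ⟨_, base_mem hij, _, base_mem hij.symm,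
      isRankOnePair_of_psl2Pair (pair_psl2 (by simp [hij.symm]) (by simp [hij]) (by simp) (by simp))⟩
  · exact ⟨_, base_mem hij, _, base_mem hlj.symm,
      pair_commCase (by simp [hij.symm]) (by simp [hlj]) (by simp) (by simp) (by simp) (by simp [hli])⟩
  · rcases pair_cases hA hB with h' | h' | h'
    · exact absurd h' (RankOne.commutator_ne_bot h)
    · exact h'
    · exact absurd h' (not_commCase_of_rankOne (hset.commutative A hA) h)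

end CfsgLib.RootSubgroups.SLTransv
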