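import Cfsg.Agent.RootSubgroups.SL2
import Cfsg.Agent.RootSubgroups.Image

/-!
# Classes of transvection subgroups: from `SL₂` pairs to degenerate classes of root subgroups
-/

set_option autoImplicit false

namespace CfsgLib.RootSubgroups

open Cfsg Matrix

variable {G : Type*} [Group G] {k : Type*} [Field k]

/-- A `SL₂`-pair gives a rank one pair. -/
theorem isRankOnePair_of_psl2Pair {A B : Subgroup G} (h : IsPSL2PairOver k A B) : IsRankOnePair A B := by
  obtain ⟨φ, -, hker, rfl, rfl⟩ := h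
  have hcen : ∀ z ∈ φ.ker, ∀ g : Matrix.SpecialLinearGroup (Fin 2) k, g * z = z * g := fun z hz g =>
    Subgroup.mem_center_iff.1 (hker hz) g
  have hupc : ∀ x ∈ upperUnipotentSL2 k, φ x = 1 → x = 1 := fun x hx h1 => by
    obtain ⟨s, rfl⟩ := SLTwo.mem_upper.1 hx
    have h2 := congrArg (fun g : Matrix.SpecialLinearGroup (Fin 2) k => (g : Matrix (Fin 2) (Fin 2) k) 1 1)
      (hcen _ h1 (SLTwo.low 1))
    simp [Matrix.mul_fin_two] at h2
    rw [h2, SLTwo.up_zero]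
  have hlowc : ∀ x ∈ lowerUnipotentSL2 k, φ x = 1 → x = 1 := fun x hx h1 => by
    obtain ⟨s, rfl⟩ := SLTwo.mem_lower.1 hx
    have h2 := congrArg (fun g : Matrix.SpecialLinearGroup (Fin 2) k => (g : Matrix (Fin 2) (Fin 2) k) 0 0)
      (hcen _ h1 (SLTwo.up 1))
    simp [Matrix.mul_fin_two] at h2
    rw [h2, SLTwo.low_zero]
  have hP := SLTwo.isRankOnePair (k := k)
  have hcomm : ∀ A' : Subgroup (Matrix.SpecialLinearGroup (Fin 2) k), IsMulCommutative A' →
      Group.IsNilpotent ↥(A'.map φ) := fun A' hA => isNilpotent_of_commutative ⟨⟨fun x y => by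
    obtain ⟨a, ha, hax⟩ := x.2
    obtain ⟨b, hb, hby⟩ := y.2
    refine Subtype.ext ?_
    show (x : G) * y = y * x
    rw [← hax, ← hby, ← map_mul, ← map_mul,
      show a * b = b * a from congrArg Subtype.val (mul_comm' (⟨a, ha⟩ : A') ⟨b, hb⟩)]⟩⟩
  have hcU : IsMulCommutative (upperUnipotentSL2 k) := ⟨⟨fun x y => Subtype.ext (by
    obtain ⟨s, hs⟩ := SLTwo.mem_upper.1 x.2
    obtain ⟨t, ht⟩ := SLTwo.mem_upper.1 y.2
    show (x : Matrix.SpecialLinearGroup (Fin 2) k) * y = y * x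
    rw [hs, ht, SLTwo.up_mul, SLTwo.up_mul, add_comm])⟩⟩
  have hcL : IsMulCommutative (lowerUnipotentSL2 k) := ⟨⟨fun x y => Subtype.ext (by
    obtain ⟨s, hs⟩ := SLTwo.mem_lower.1 x.2
    obtain ⟨t, ht⟩ := SLTwo.mem_lower.1 y.2
    show (x : Matrix.SpecialLinearGroup (Fin 2) k) * y = y * x
    rw [hs, ht, SLTwo.low_mul, SLTwo.low_mul, add_comm])⟩⟩
  have hcond : ∀ {A' B' : Subgroup (Matrix.SpecialLinearGroup (Fin 2) k)},
      (∀ x ∈ B', φ x = 1 → x = 1) → RankOneCondition A' B' → RankOneCondition (A'.map φ) (B'.map φ) := by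
    rintro A' B' hB' hc _ ⟨a, ha, rfl⟩ ha1
    obtain ⟨b, hb, hb1, hab⟩ := hc a ha (fun h => ha1 (by rw [h, map_one]))
    refine ⟨φ b, ⟨b, hb, rfl⟩, fun h => hb1 (hB' b hb h), ?_⟩
    rw [← map_inv, ← map_inv, ← map_conjBy, ← map_conjBy, hab]
  refine ⟨fun hne => ?_, hcomm _ hcU, hcomm _ hcL, hcond hlowc hP.cond_right, hcond hupc hP.cond_left⟩
  have hmem : φ (SLTwo.up 1) ∈ (lowerUnipotentSL2 k).map φ := by
    rw [← hne]; exact ⟨_, SLTwo.mem_upper.2 ⟨1, rfl⟩, rfl⟩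
  obtain ⟨y, hy, hyx⟩ := hmem
  obtain ⟨t, rfl⟩ := SLTwo.mem_lower.1 hy
  have hz : (SLTwo.low t)⁻¹ * SLTwo.up 1 ∈ φ.ker := by
    rw [MonoidHom.mem_ker, map_mul, map_inv, hyx, inv_mul_cancel]
  have h2 := congrArg (fun g : Matrix.SpecialLinearGroup (Fin 2) k => (g : Matrix (Fin 2) (Fin 2) k) 0 0)
    (hcen _ hz (SLTwo.low 1))
  rw [SLTwo.low_inv] at h2
  simp [Matrix.mul_fin_two] at h2

/-- A rank one pair with abelian first member is never in the commutator case. -/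
theorem not_commCase_of_rankOne {S : Set (Subgroup G)} {A B : Subgroup G} (hA : IsMulCommutative A)
    (h : IsRankOnePair A B) : ¬ RootCommutatorCase S A B := by
  rintro ⟨-, hcen, -, -⟩
  refine RankOne.commutator_ne_bot h (commutator_eq_bot_iff_commutes.2 ?_)
  have hle : ⁅A, B⁆ ≤ A ⊔ B := Subgroup.commutator_le.2 fun a ha b hb => by
    rw [commutatorElement_def]
    exact mul_mem (mul_mem (mul_mem (Subgroup.mem_sup_left ha) (Subgroup.mem_sup_right hb))
      (inv_mem (Subgroup.mem_sup_left ha))) (inv_mem (Subgroup.mem_sup_right hb))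
  set D := A ⊔ ⁅A, B⁆ with hD
  have hDA : ∀ a ∈ A, ∀ d ∈ D, a * d = d * a := by
    intro a ha
    have hDle : D ≤ Subgroup.centralizer ({a} : Set G) :=
      sup_le (fun x hx => Subgroup.mem_centralizer_singleton_iff.2
          (congrArg Subtype.val (mul_comm' (⟨x, hx⟩ : A) ⟨a, ha⟩)))
        (fun c hc => Subgroup.mem_centralizer_singleton_iff.2 (hcen c hc a (Subgroup.mem_sup_left ha)))
    exact fun d hd => (Subgroup.mem_centralizer_singleton_iff.1 (hDle hd)).symm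
  obtain ⟨a, ha, ha1⟩ := RankOne.exists_left h
  obtain ⟨b, hb, -, hab⟩ := h.cond_left a ha ha1
  intro a' ha' y hy
  refine hDA a' ha' y ?_
  have hc : a⁻¹ * y * a ∈ conjBy A b⁻¹ := by
    rw [hab, mem_conjBy, inv_inv]
    simpa [mul_assoc] using hy
  rw [mem_conjBy, inv_inv] at hc
  set x := b * (a⁻¹ * y * a) * b⁻¹ with hx
  have hyD : a⁻¹ * y * a = x * (x⁻¹ * b⁻¹ * x * b) := by rw [hx]; group
  have hcom : x⁻¹ * b⁻¹ * x * b ∈ ⁅A, B⁆ := by
    have h9 := Subgroup.commutator_mem_commutator (inv_mem hc) (inv_mem hb)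
    rwa [commutatorElement_def, inv_inv, inv_inv] at h9
  have h1 : a⁻¹ * y * a ∈ D := hyD ▸ mul_mem (Subgroup.mem_sup_left hc) (Subgroup.mem_sup_right hcom)
  have h2 := mul_mem (mul_mem (Subgroup.mem_sup_left ha : a ∈ D) h1) (inv_mem (Subgroup.mem_sup_left ha : a ∈ D))
  simpa [mul_assoc] using h2

/-- A generating family of abelian subgroups, permuted by conjugation, connected through `SL₂`-pairs, in which
any two members commute or form a `SL₂`-pair, is a degenerate class of `k`-root subgroups. -/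
theorem class_of_psl2Pairs {S : Set (Subgroup G)} (hne : S.Nonempty) (hgen : (⨆ A ∈ S, A) = ⊤)
    (hbot : ∀ A ∈ S, A ≠ ⊥) (hab : ∀ A ∈ S, IsMulCommutative A)
    (hconj : ∀ A ∈ S, ∀ B ∈ S, ∀ b ∈ B, conjBy A b ∈ S)
    (hpair : ∀ A ∈ S, ∀ B ∈ S, ⁅A, B⁆ = ⊥ ∨ IsPSL2PairOver k A B)
    (hconn : IsConnectedFamily (fun A B => A ∈ S ∧ B ∈ S ∧ IsPSL2PairOver k A B) S) :
    IsRootSubgroupClass S ∧ IsDegenerateRootSet S ∧ IsKRootSubgroupSet k S ∧ IsConnectedFamily (FAdj S) S := by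
  have hconj' : ∀ A ∈ S, ∀ g : G, conjBy A g ∈ S := by
    intro A hA g
    have hg : g ∈ Subgroup.closure (⋃ B ∈ S, (B : Set G)) := by
      rw [Subgroup.closure_iUnion]
      simp only [Subgroup.closure_iUnion, Subgroup.closure_eq]
      rw [hgen]; trivial
    revert A
    have key : ∀ A ∈ S, conjBy A g ∈ S ∧ conjBy A g⁻¹ ∈ S := by
      induction hg using Subgroup.closure_induction with
      | mem x hx =>
        obtain ⟨B, hB, hx⟩ := Set.mem_iUnion₂.1 hx
        exact fun A hA => ⟨hconj A hA B hB x hx, hconj A hA B hB _ (inv_mem hx)⟩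
      | one => intro A hA; simpa [conjBy_one] using hA
      | mul x y _ _ hx hy =>
        intro A hA
        refine ⟨?_, ?_⟩
        · rw [← conjBy_conjBy]; exact (hx _ (hy A hA).1).1
        · rw [_root_.mul_inv_rev, ← conjBy_conjBy]; exact (hy _ (hx A hA).2).2
      | inv x _ hx => intro A hA; rw [inv_inv]; exact (hx A hA).symm
    exact fun A hA => (key A hA).1
  have hset : IsRootSubgroupSet S := ⟨hab, hbot, hgen, hconj', fun A hA B hB =>
    (hpair A hA B hB).imp id fun h => Or.inl (isRankOnePair_of_psl2Pair h)⟩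
  refine ⟨⟨hset, hne, fun A hA B hB => ?_⟩, fun A hA B hB hc => ?_, ⟨hset, fun A hA B hB h => ?_⟩, fun A hA B hB => ?_⟩
  · induction hconn A hA B hB with
    | refl => exact ⟨1, (conjBy_one A).symm⟩
    | tail _ hCD ih =>
      obtain ⟨hC, hD, hpq⟩ := hCD
      obtain ⟨g, hg⟩ := ih hC
      obtain ⟨x, -, hx⟩ := RankOne.right_mem_unipotent (isRankOnePair_of_psl2Pair hpq)
      exact ⟨x * g, by rw [hx, hg, conjBy_conjBy]⟩
  · rcases hpair A hA B hB with h | h
    · exact hbot _ hc.1 h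
    · exact not_commCase_of_rankOne (hab A hA) (isRankOnePair_of_psl2Pair h) hc
  · exact (hpair A hA B hB).resolve_left (RankOne.commutator_ne_bot h)
  · exact Relation.ReflTransGen.mono (fun C D h => ⟨h.1, h.2.1, isRankOnePair_of_psl2Pair h.2.2⟩) A B (hconn A hA B hB)

/-- The same for the subgroup generated by the family. -/
theorem class_of_psl2Pairs_generated {S₀ : Set (Subgroup G)} (hne : S₀.Nonempty)
    (hbot : ∀ A ∈ S₀, A ≠ ⊥) (hab : ∀ A ∈ S₀, IsMulCommutative A)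
    (hconj : ∀ A ∈ S₀, ∀ B ∈ S₀, ∀ b ∈ B, conjBy A b ∈ S₀)
    (hpair : ∀ A ∈ S₀, ∀ B ∈ S₀, ⁅A, B⁆ = ⊥ ∨ IsPSL2PairOver k A B)
    (hconn : IsConnectedFamily (fun A B => A ∈ S₀ ∧ B ∈ S₀ ∧ IsPSL2PairOver k A B) S₀) :
    IsRootSubgroupClass ((fun A : Subgroup G => A.subgroupOf (⨆ B ∈ S₀, B)) '' S₀) ∧
      IsDegenerateRootSet ((fun A : Subgroup G => A.subgroupOf (⨆ B ∈ S₀, B)) '' S₀) ∧
      IsKRootSubgroupSet k ((fun A : Subgroup G => A.subgroupOf (⨆ B ∈ S₀, B)) '' S₀) ∧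
      IsConnectedFamily (FAdj ((fun A : Subgroup G => A.subgroupOf (⨆ B ∈ S₀, B)) '' S₀))
        ((fun A : Subgroup G => A.subgroupOf (⨆ B ∈ S₀, B)) '' S₀) := by
  set M : Subgroup G := ⨆ B ∈ S₀, B with hM
  have hle : ∀ A ∈ S₀, A ≤ M := fun A hA => le_biSup (fun B : Subgroup G => B) hA
  have hback : ∀ {A : Subgroup G}, A ≤ M → (A.subgroupOf M).map M.subtype = A := fun {A} h => by
    rw [Subgroup.subgroupOf_map_subtype, inf_of_le_left h]
  have hinj : Function.Injective (Subgroup.map M.subtype) := Subgroup.map_injective M.subtype_injective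
  have hlift : ∀ {A B : Subgroup G}, A ≤ M → B ≤ M → IsPSL2PairOver k A B →
      IsPSL2PairOver k (A.subgroupOf M) (B.subgroupOf M) := by
    rintro A B hA hB ⟨φ, hr, hker, hu, hl⟩
    have hφ : ∀ x, φ x ∈ M := fun x => (sup_le hA hB) (hr ▸ ⟨x, rfl⟩)
    refine ⟨φ.codRestrict M hφ, ?_, by rwa [MonoidHom.ker_codRestrict], ?_, ?_⟩
    · apply hinj
      rw [Subgroup.map_sup, hback hA, hback hB, ← hr, MonoidHom.map_range]
      rfl
    · apply hinj
      rw [Subgroup.map_map, hback hA, ← hu]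
      rfl
    · apply hinj
      rw [Subgroup.map_map, hback hB, ← hl]
      rfl
  refine class_of_psl2Pairs (hne.image _) ?_ ?_ ?_ ?_ ?_ ?_
  · apply hinj
    rw [iSup_image, Subgroup.map_iSup, ← MonoidHom.range_eq_map, Subgroup.range_subtype]
    conv_rhs => rw [hM]
    refine iSup_congr fun A => ?_
    rw [Subgroup.map_iSup]
    exact iSup_congr fun hA => hback (hle A hA)
  · rintro _ ⟨A, hA, rfl⟩ h
    exact hbot A hA (by rw [← hback (hle A hA), show A.subgroupOf M = ⊥ from h, Subgroup.map_bot])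
  · rintro _ ⟨A, hA, rfl⟩
    refine ⟨⟨fun x y => Subtype.ext (Subtype.ext ?_)⟩⟩
    have h9 := congrArg Subtype.val ((hab A hA).is_comm.comm ⟨x.1.1, x.2⟩ ⟨y.1.1, y.2⟩)
    exact h9
  · rintro _ ⟨A, hA, rfl⟩ _ ⟨B, hB, rfl⟩ b hb
    refine ⟨conjBy A (b : G), hconj A hA B hB _ hb, hinj ?_⟩
    simp only
    rw [map_conjBy, hback (hle A hA), hback (hle _ (hconj A hA B hB (b : G) hb))]
    rfl
  · rintro _ ⟨A, hA, rfl⟩ _ ⟨B, hB, rfl⟩
    rcases hpair A hA B hB with h | h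
    · left
      apply hinj
      rw [Subgroup.map_commutator, hback (hle A hA), hback (hle B hB), h, Subgroup.map_bot]
    · exact Or.inr (hlift (hle A hA) (hle B hB) h)
  · rintro _ ⟨A, hA, rfl⟩ _ ⟨B, hB, rfl⟩
    exact (hconn A hA B hB).lift (fun C : Subgroup G => C.subgroupOf M)
      fun C D h => ⟨⟨C, h.1, rfl⟩, ⟨D, h.2.1, rfl⟩, hlift (hle C h.1) (hle D h.2.1) h.2.2⟩

section Hyperbolic

variable {ι : Type*} [Fintype ι] [DecidableEq ι] {F : Type*} [Field F] (e f a b : ι → F) (θ : k →+* F) (δ : F)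

/-- The action of a `2 × 2` matrix on the plane spanned by `e, f`, coordinates read by `a, b`. -/
def planeMat (M : Matrix (Fin 2) (Fin 2) k) : Matrix ι ι F :=
  1 + Matrix.vecMulVec e ((θ (M 0 0) - 1) • a + (δ * θ (M 0 1)) • b) +
    Matrix.vecMulVec f ((δ⁻¹ * θ (M 1 0)) • a + (θ (M 1 1) - 1) • b)

theorem planeMat_mulVec (M : Matrix (Fin 2) (Fin 2) k) (x : ι → F) :
    planeMat e f a b θ δ M *ᵥ x = x + ((θ (M 0 0) - 1) * (a ⬝ᵥ x) + δ * θ (M 0 1) * (b ⬝ᵥ x)) • e +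
      (δ⁻¹ * θ (M 1 0) * (a ⬝ᵥ x) + (θ (M 1 1) - 1) * (b ⬝ᵥ x)) • f := by
  simp only [planeMat, Matrix.add_mulVec, Matrix.one_mulVec, Matrix.vecMulVec_mulVec, add_dotProduct,
    smul_dotProduct, smul_eq_mul, op_smul_eq_smul]

variable {e f a b δ}

/-- `SL₂(k)` acting on a plane. -/
def planeHom (hae : a ⬝ᵥ e = 1) (haf : a ⬝ᵥ f = 0) (hbe : b ⬝ᵥ e = 0) (hbf : b ⬝ᵥ f = 1) (hδ : δ ≠ 0) :
    Matrix.SpecialLinearGroup (Fin 2) k →* Matrix ι ι F where
  toFun M := planeMat e f a b θ δ (M : Matrix (Fin 2) (Fin 2) k)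
  map_one' := Matrix.ext_iff_mulVec.2 fun x => by simp [planeMat_mulVec]
  map_mul' M N := Matrix.ext_iff_mulVec.2 fun x => by
    have hδ' := inv_mul_cancel₀ hδ
    rw [← Matrix.mulVec_mulVec, planeMat_mulVec, planeMat_mulVec, planeMat_mulVec]
    simp only [dotProduct_add, dotProduct_smul, hae, haf, hbe, hbf, smul_eq_mul, Matrix.SpecialLinearGroup.coe_mul,
      Matrix.mul_apply, Fin.sum_univ_two, map_add, map_mul]
    match_scalars
    · ring
    · field_simp; ring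
    · field_simp; ring

theorem planeHom_injective (hae : a ⬝ᵥ e = 1) (haf : a ⬝ᵥ f = 0) (hbe : b ⬝ᵥ e = 0) (hbf : b ⬝ᵥ f = 1)
    (hδ : δ ≠ 0) : Function.Injective (planeHom θ hae haf hbe hbf hδ) := by
  intro M N h
  have he := congrArg (fun X : Matrix ι ι F => (a ⬝ᵥ (X *ᵥ e), b ⬝ᵥ (X *ᵥ e), a ⬝ᵥ (X *ᵥ f), b ⬝ᵥ (X *ᵥ f))) h
  simp only [planeHom, MonoidHom.coe_mk, OneHom.coe_mk, planeMat_mulVec, dotProduct_add, dotProduct_smul, hae, haf,
    hbe, hbf, smul_eq_mul, Prod.mk.injEq] at he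
  obtain ⟨h00, h10, h01, h11⟩ := he
  have e00 : θ ((M : Matrix (Fin 2) (Fin 2) k) 0 0) = θ ((N : Matrix (Fin 2) (Fin 2) k) 0 0) := by linear_combination h00
  have e01 : θ ((M : Matrix (Fin 2) (Fin 2) k) 0 1) = θ ((N : Matrix (Fin 2) (Fin 2) k) 0 1) :=
    mul_left_cancel₀ hδ (by linear_combination h01)
  have e10 : θ ((M : Matrix (Fin 2) (Fin 2) k) 1 0) = θ ((N : Matrix (Fin 2) (Fin 2) k) 1 0) :=
    mul_left_cancel₀ (inv_ne_zero hδ) (by linear_combination h10)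
  have e11 : θ ((M : Matrix (Fin 2) (Fin 2) k) 1 1) = θ ((N : Matrix (Fin 2) (Fin 2) k) 1 1) := by linear_combination h11
  refine Subtype.ext (Matrix.ext fun i j => θ.injective ?_)
  fin_cases i <;> fin_cases j <;> assumption

end Hyperbolic

/-- An injective homomorphism of `SL₂(k)` taking the unitriangular subgroups onto `A` and `B`. -/
theorem psl2Pair_of_hom {A B : Subgroup G} (φ : Matrix.SpecialLinearGroup (Fin 2) k →* G) (hφ : Function.Injective φ)
    (hu : ∀ g, g ∈ A ↔ ∃ s, φ (SLTwo.up s) = g) (hl : ∀ g, g ∈ B ↔ ∃ t, φ (SLTwo.low t) = g) :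
    IsPSL2PairOver k A B := by
  have hA : (upperUnipotentSL2 k).map φ = A := by
    ext g
    rw [hu]
    constructor
    · rintro ⟨x, hx, rfl⟩
      obtain ⟨s, rfl⟩ := SLTwo.mem_upper.1 hx
      exact ⟨s, rfl⟩
    · rintro ⟨s, rfl⟩
      exact ⟨_, SLTwo.mem_upper.2 ⟨s, rfl⟩, rfl⟩
  have hB : (lowerUnipotentSL2 k).map φ = B := by
    ext g
    rw [hl]
    constructor
    · rintro ⟨x, hx, rfl⟩
      obtain ⟨s, rfl⟩ := SLTwo.mem_lower.1 hx
      exact ⟨s, rfl⟩
    · rintro ⟨s, rfl⟩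
      exact ⟨_, SLTwo.mem_lower.2 ⟨s, rfl⟩, rfl⟩
  refine ⟨φ, ?_, ?_, hA, hB⟩
  · rw [MonoidHom.range_eq_map, ← SLTwo.sup_eq_top (k := k), Subgroup.map_sup, hA, hB, sup_comm]
  · rw [(MonoidHom.ker_eq_bot_iff φ).2 hφ]; exact bot_le

/-- A property of `SL₂(k)` holds as soon as it holds for unitriangular matrices and is multiplicative. -/
theorem slTwo_induction {P : Matrix.SpecialLinearGroup (Fin 2) k → Prop} (hu : ∀ s, P (SLTwo.up s))
    (hl : ∀ t, P (SLTwo.low t)) (hm : ∀ x y, P x → P y → P (x * y)) (g : Matrix.SpecialLinearGroup (Fin 2) k) :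
    P g := by
  have hg : g ∈ Subgroup.closure ((lowerUnipotentSL2 k : Set (Matrix.SpecialLinearGroup (Fin 2) k)) ∪
      (upperUnipotentSL2 k : Set (Matrix.SpecialLinearGroup (Fin 2) k))) := by
    rw [← Subgroup.sup_eq_closure, SLTwo.sup_eq_top]; trivial
  have hgen : ∀ x, x ∈ lowerUnipotentSL2 k ∨ x ∈ upperUnipotentSL2 k → P x := by
    rintro x (hx | hx)
    · obtain ⟨t, rfl⟩ := SLTwo.mem_lower.1 hx; exact hl t
    · obtain ⟨t, rfl⟩ := SLTwo.mem_upper.1 hx; exact hu t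
  induction hg using Subgroup.closure_induction'' with
  | mem x hx => exact hgen x hx
  | inv_mem x hx => exact hgen x⁻¹ (hx.imp (fun h => inv_mem h) (fun h => inv_mem h))
  | one => rw [← SLTwo.up_zero]; exact hu 0
  | mul x y _ _ hx hy => exact hm x y hx hy

end CfsgLib.RootSubgroups
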